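import Mathlib.GroupTheory.Sylow
import Mathlib.GroupTheory.Nilpotent
import Mathlib.Tactic.Group

/-!
# Generalized dihedral subgroups containing the centralisers of their central involutions

`Hyp H A`: every element of `H` outside the proper subgroup `A` squares to one, `4 ∣ |H|`, and `H`
is the centraliser of each of its central involutions. If `H` is not elementary abelian then `A` is
abelian of index two, inverted by the elements outside, and is determined by `H`.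
-/

set_option autoImplicit false
set_option linter.unusedSectionVars false
set_option linter.style.haveILetI false

namespace Cfsg.Agent.H68.GenDihedral

open Subgroup

universe u

variable {G : Type u} [Group G]

/-- The hypothesis on `H` and `A`. -/
structure Hyp (H A : Subgroup G) : Prop where
  lt : A < H
  sq : ∀ x ∈ H, x ∉ A → x * x = 1
  four : 4 ∣ Nat.card ↥H
  cent : ∀ j ∈ H, j * j = 1 → j ≠ 1 → (∀ h ∈ H, Commute h j) → ∀ g, Commute g j → g ∈ H

/-- The case where `A` is not of exponent two. -/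
structure NonElem (H A : Subgroup G) : Prop extends Hyp H A where
  big : ∃ a ∈ A, a * a ≠ 1

theorem inv_eq_self {x : G} (h : x * x = 1) : x⁻¹ = x := inv_eq_of_mul_eq_one_right h

theorem orderOf_eq_two {x : G} (h : x * x = 1) (h1 : x ≠ 1) : orderOf x = 2 :=
  haveI : Fact (Nat.Prime 2) := ⟨Nat.prime_two⟩
  orderOf_eq_prime (by rw [sq, h]) h1

theorem mul_self_of_orderOf {x : G} (h : orderOf x = 2) : x * x = 1 := by
  rw [← sq, ← h, pow_orderOf_eq_one]

theorem conj_mul_self {x : G} (h : x * x = 1) (g : G) : g * x * g⁻¹ * (g * x * g⁻¹) = 1 := by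
  rw [show g * x * g⁻¹ * (g * x * g⁻¹) = g * (x * x) * g⁻¹ by group, h, mul_one, mul_inv_cancel]

theorem sq_eq_of_conj {x g : G} (h : g * x * g⁻¹ * (g * x * g⁻¹) = 1) : x * x = 1 := by
  rw [show x * x = g⁻¹ * (g * x * g⁻¹ * (g * x * g⁻¹)) * g by group, h, mul_one, inv_mul_cancel]

theorem commute_conj {a b : G} (h : Commute a b) (g : G) : Commute (g * a * g⁻¹) (g * b * g⁻¹) := by
  show g * a * g⁻¹ * (g * b * g⁻¹) = g * b * g⁻¹ * (g * a * g⁻¹)
  rw [show g * a * g⁻¹ * (g * b * g⁻¹) = g * (a * b) * g⁻¹ by group, h.eq]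
  group

variable {H A : Subgroup G}

namespace Hyp

variable (h : Hyp H A)
include h

theorem exists_out : ∃ x ∈ H, x ∉ A := SetLike.exists_of_lt h.lt

theorem mem_H {a : G} (ha : a ∈ A) : a ∈ H := h.lt.le ha

theorem out_mul {x a : G} (hx : x ∈ H) (hxA : x ∉ A) (ha : a ∈ A) : x * a ∈ H ∧ x * a ∉ A :=
  ⟨mul_mem hx (h.mem_H ha), fun h' => hxA ((mul_mem_cancel_right ha).1 h')⟩

/-- Elements outside `A` invert `A`. -/
theorem inverts {x a : G} (hx : x ∈ H) (hxA : x ∉ A) (ha : a ∈ A) : x * a * x⁻¹ = a⁻¹ := by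
  obtain ⟨h1, h2⟩ := h.out_mul hx hxA ha
  have h3 := h.sq _ h1 h2
  have h4 : x * a * x = a⁻¹ := eq_inv_of_mul_eq_one_left (by rw [mul_assoc, h3])
  rwa [inv_eq_self (h.sq x hx hxA)]

theorem comm {a b : G} (ha : a ∈ A) (hb : b ∈ A) : Commute a b := by
  obtain ⟨x, hx, hxA⟩ := h.exists_out
  refine Commute.inv_inv_iff.1 ?_
  show a⁻¹ * b⁻¹ = b⁻¹ * a⁻¹
  rw [← mul_inv_rev a b, ← h.inverts hx hxA (mul_mem ha hb), ← h.inverts hx hxA ha,
    ← h.inverts hx hxA hb]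
  group

theorem isMulCommutative : IsMulCommutative ↥A :=
  ⟨⟨fun a b => Subtype.ext (h.comm a.2 b.2).eq⟩⟩

theorem elem_or : (∀ x ∈ H, x * x = 1) ∨ NonElem H A := by
  by_cases hA : ∀ a ∈ A, a * a = 1
  · refine Or.inl fun x hx => ?_
    by_cases hxA : x ∈ A
    exacts [hA x hxA, h.sq x hx hxA]
  · push Not at hA
    exact Or.inr ⟨h, hA⟩

theorem mem_of_sq {x : G} (hx : x ∈ H) (h2 : x * x ≠ 1) : x ∈ A :=
  by_contra fun hxA => h2 (h.sq x hx hxA)

end Hyp

namespace NonElem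

variable (h : NonElem H A)
include h

theorem mul_mem_A {x y : G} (hx : x ∈ H) (hxA : x ∉ A) (hy : y ∈ H) (hyA : y ∉ A) :
    x * y ∈ A := by
  by_contra hxy
  obtain ⟨a, ha, ha2⟩ := h.big
  have h1 := h.inverts (mul_mem hx hy) hxy ha
  rw [show x * y * a * (x * y)⁻¹ = x * (y * a * y⁻¹) * x⁻¹ by group, h.inverts hy hyA ha,
    h.inverts hx hxA (inv_mem ha), inv_inv] at h1
  exact ha2 (mul_eq_one_iff_eq_inv.2 h1)

theorem mul_mem_iff {x y : G} (hx : x ∈ H) (hy : y ∈ H) : x * y ∈ A ↔ (x ∈ A ↔ y ∈ A) := by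
  constructor
  · intro hxy
    exact ⟨fun hxA => (mul_mem_cancel_left hxA).1 hxy, fun hyA => (mul_mem_cancel_right hyA).1 hxy⟩
  · intro hiff
    by_cases hxA : x ∈ A
    · exact mul_mem hxA (hiff.1 hxA)
    · exact h.mul_mem_A hx hxA hy fun hyA => hxA (hiff.2 hyA)

theorem relIndex_eq : A.relIndex H = 2 := by
  obtain ⟨x, hx, hxA⟩ := h.exists_out
  refine index_eq_two_iff.2 ⟨⟨x, hx⟩, fun b => ?_⟩
  simp only [mem_subgroupOf, Subgroup.coe_mul, h.mul_mem_iff b.2 hx]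
  by_cases hb : (b : G) ∈ A <;> simp [hb, hxA]

theorem card_H : Nat.card ↥H = 2 * Nat.card ↥A := by
  rw [← h.relIndex_eq, mul_comm, ← relIndex_bot_left A, ← relIndex_bot_left H,
    relIndex_mul_relIndex _ _ _ bot_le h.lt.le]

/-- Elements of square one in `A` are central in `H`. -/
theorem commute_omega {w x : G} (hw : w ∈ A) (hw2 : w * w = 1) (hx : x ∈ H) : Commute x w := by
  by_cases hxA : x ∈ A
  · exact h.comm hxA hw
  · have h1 := h.inverts hx hxA hw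
    rw [inv_eq_self hw2] at h1
    exact mul_inv_eq_iff_eq_mul.1 h1

theorem commute_iff {w g : G} (hw : w ∈ A) (hw2 : w * w = 1) (hw1 : w ≠ 1) :
    Commute g w ↔ g ∈ H :=
  ⟨h.cent w (h.mem_H hw) hw2 hw1 (fun _ hx => h.commute_omega hw hw2 hx) g,
    fun hg => h.commute_omega hw hw2 hg⟩

theorem exists_involution [Finite G] : ∃ j ∈ A, j * j = 1 ∧ j ≠ 1 := by
  haveI : Fact (Nat.Prime 2) := ⟨Nat.prime_two⟩
  have h4 := h.four
  rw [h.card_H] at h4
  obtain ⟨j, hj⟩ := exists_prime_orderOf_dvd_card' (G := ↥A) 2 (by omega)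
  refine ⟨j, j.2, ?_, fun h1 => ?_⟩
  · exact mul_self_of_orderOf ((orderOf_coe j).trans hj)
  · rw [show j = 1 from Subtype.ext h1, orderOf_one] at hj
    omega

/-- An element of square one mapping a central involution to one normalises `H`. -/
theorem conj_mem_iff_of_fused {w g : G} (hw : w ∈ A) (hw2 : w * w = 1) (hw1 : w ≠ 1)
    (hv : g * w * g⁻¹ ∈ A) (x : G) : g * x * g⁻¹ ∈ H ↔ x ∈ H := by
  have hv1 : g * w * g⁻¹ ≠ 1 := fun e => hw1 (conj_eq_one_iff.1 e)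
  refine (h.commute_iff hv (conj_mul_self hw2 g) hv1).symm.trans
    (Iff.trans ⟨fun hc => ?_, fun hc => commute_conj hc g⟩ (h.commute_iff hw hw2 hw1))
  have := commute_conj hc g⁻¹
  simpa [mul_assoc] using this

/-- What normalises `H` normalises `A`. -/
theorem conj_mem_A {g a : G} (hg : ∀ x ∈ H, g * x * g⁻¹ ∈ H) (ha : a ∈ A) : g * a * g⁻¹ ∈ A := by
  have key : ∀ b ∈ A, b * b ≠ 1 → g * b * g⁻¹ ∈ A := fun b hb hb2 =>
    h.mem_of_sq (hg b (h.mem_H hb)) fun e => hb2 (sq_eq_of_conj e)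
  by_cases ha2 : a * a = 1
  · obtain ⟨c, hc, hc2⟩ := h.big
    have h1 : a * c * (a * c) = c * c := by
      rw [show a * c * (a * c) = a * (c * a) * c by group, (h.comm hc ha).eq,
        show a * (a * c) * c = a * a * (c * c) by group, ha2, one_mul]
    have h2 := mul_mem (key _ (mul_mem ha hc) (h1 ▸ hc2)) (inv_mem (key c hc hc2))
    rwa [show g * (a * c) * g⁻¹ * (g * c * g⁻¹)⁻¹ = g * a * g⁻¹ by group] at h2
  · exact key a ha ha2

end NonElem

/-- An involution of `H` is conjugate in `H` into a given Sylow 2-subgroup of `H`. -/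
theorem exists_conj_mem_sylow [Finite G] (S : Sylow 2 ↥H) {x : G} (hx : x ∈ H) (hx2 : x * x = 1) :
    ∃ k ∈ H, k * x * k⁻¹ ∈ (S : Subgroup ↥H).map H.subtype := by
  haveI : Fact (Nat.Prime 2) := ⟨Nat.prime_two⟩
  have hp : IsPGroup 2 (zpowers (⟨x, hx⟩ : ↥H)) := by
    rintro ⟨_, i, rfl⟩
    refine ⟨1, Subtype.ext ?_⟩
    show ((⟨x, hx⟩ : ↥H) ^ i) ^ (2 ^ 1) = 1
    rw [← zpow_natCast, ← zpow_mul, mul_comm, zpow_mul, zpow_natCast,
      show (⟨x, hx⟩ : ↥H) ^ (2 ^ 1) = 1 from Subtype.ext (by simp [sq, hx2]), one_zpow]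
  obtain ⟨Q, hQ⟩ := hp.exists_le_sylow
  obtain ⟨k, hk⟩ := MulAction.exists_smul_eq ↥H Q S
  refine ⟨k, k.2, ⟨k * ⟨x, hx⟩ * k⁻¹, ?_, rfl⟩⟩
  rw [← hk]
  exact Subgroup.smul_mem_pointwise_smul _ (MulAut.conj k) _ (hQ (mem_zpowers _))

/-- A Sylow 2-subgroup of `H` contains an element outside `A`. -/
theorem NonElem.exists_sylow_out [Finite G] (h : NonElem H A) (S : Sylow 2 ↥H) :
    ∃ x ∈ (S : Subgroup ↥H).map H.subtype, x ∈ H ∧ x ∉ A ∧ x * x = 1 ∧ x ≠ 1 := by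
  haveI : Fact (Nat.Prime 2) := ⟨Nat.prime_two⟩
  obtain ⟨x, hx, hxA⟩ := h.exists_out
  obtain ⟨k, hk, hkx⟩ := exists_conj_mem_sylow S hx (h.sq x hx hxA)
  refine ⟨_, hkx, mul_mem (mul_mem hk hx) (inv_mem hk), fun hA => hxA ?_,
    conj_mul_self (h.sq x hx hxA) k, fun e => hxA ((conj_eq_one_iff.1 e) ▸ one_mem A)⟩
  have := h.conj_mem_A (g := k⁻¹) (fun y hy => mul_mem (mul_mem (inv_mem hk) hy) (inv_mem (inv_mem hk))) hA
  rwa [show k⁻¹ * (k * x * k⁻¹) * k⁻¹⁻¹ = x by group] at this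

/-- A 2-subgroup of `H` over a Sylow 2-subgroup of `H` is that subgroup. -/
theorem eq_map_sylow [Finite G] (S : Sylow 2 ↥H) {Q : Subgroup G} (hQ : IsPGroup 2 ↥Q)
    (hSQ : (S : Subgroup ↥H).map H.subtype ≤ Q) (hQH : Q ≤ H) :
    Q = (S : Subgroup ↥H).map H.subtype := by
  rw [← S.is_maximal' (hQ.comap_subtype (K := H)) (map_le_iff_le_comap.1 hSQ)]
  exact (map_subgroupOf_eq_of_le hQH).symm

/-- The normaliser of a proper subgroup of a 2-subgroup is larger. -/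
theorem exists_normalizing [Finite G] {P D : Subgroup G} (hP : IsPGroup 2 ↥P) (hDP : D ≤ P)
    (hne : D ≠ P) : ∃ g ∈ P, g ∉ D ∧ ∀ y ∈ D, g * y * g⁻¹ ∈ D := by
  haveI : Fact (Nat.Prime 2) := ⟨Nat.prime_two⟩
  haveI := hP.isNilpotent
  have hlt : D.subgroupOf P < ⊤ := lt_top_iff_ne_top.2 fun e =>
    hne (le_antisymm hDP (subgroupOf_eq_top.1 e))
  obtain ⟨g, hg, hgD⟩ := SetLike.exists_of_lt (Group.normalizerCondition_of_isNilpotent _ hlt)
  exact ⟨g, g.2, hgD, fun y hy => (mem_normalizer_iff.1 hg ⟨y, hDP hy⟩).1 hy⟩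

end Cfsg.Agent.H68.GenDihedral
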