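import Cfsg.Prelude.Def_CaseTheorems
import Cfsg.Agent.H68.GenDihedral.Basic
import Cfsg.Agent.PGroups.CyclicMaximal
import Cfsg.Agent.PGroups.MaxClass

/-!
# The Sylow 2-subgroups when `A` has a single involution
-/

set_option autoImplicit false
set_option linter.unusedSectionVars false
set_option linter.style.haveILetI false

namespace Cfsg.Agent.H68.GenDihedral

open Subgroup

universe u

variable {G : Type u} [Group G] [Finite G] {H A : Subgroup G} {j : G}

/-- `A` is not of exponent two and `j` is its only involution. -/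
structure Cyc (H A : Subgroup G) (j : G) : Prop extends NonElem H A where
  memj : j ∈ A
  jsq : j * j = 1
  jne : j ≠ 1
  uniq : ∀ w ∈ A, w * w = 1 → w ≠ 1 → w = j

theorem NonElem.two_omega_or (h : NonElem H A) :
    (∃ w₁ ∈ A, ∃ w₂ ∈ A, w₁ * w₁ = 1 ∧ w₂ * w₂ = 1 ∧ w₁ ≠ 1 ∧ w₂ ≠ 1 ∧ w₁ ≠ w₂) ∨
      ∃ j, Cyc H A j := by
  obtain ⟨j, hj, hj2, hj1⟩ := h.exists_involution
  by_cases hu : ∀ w ∈ A, w * w = 1 → w ≠ 1 → w = j
  · exact Or.inr ⟨j, h, hj, hj2, hj1, hu⟩
  · push Not at hu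
    obtain ⟨w, hw, hw2, hw1, hne⟩ := hu
    exact Or.inl ⟨w, hw, j, hj, hw2, hj2, hw1, hj1, hne⟩

/-- A cyclic subgroup has only one involution. -/
theorem eq_of_mem_zpowers {c u v : G} (hu : u ∈ zpowers c) (hv : v ∈ zpowers c) (hu2 : u * u = 1)
    (hv2 : v * v = 1) (hu1 : u ≠ 1) (hv1 : v ≠ 1) : u = v := by
  classical
  letI : Fintype ↥(zpowers c) := Fintype.ofFinite _
  by_contra hne
  have hle := IsCyclic.card_pow_eq_one_le (α := ↥(zpowers c)) two_pos
  have h3 : ({1, ⟨u, hu⟩, ⟨v, hv⟩} : Finset ↥(zpowers c)).card = 3 := by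
    have n1 : (1 : ↥(zpowers c)) ≠ ⟨u, hu⟩ := fun e => hu1 (congrArg Subtype.val e).symm
    have n2 : (1 : ↥(zpowers c)) ≠ ⟨v, hv⟩ := fun e => hv1 (congrArg Subtype.val e).symm
    simp [n1, n2, hne]
  have := (Finset.card_le_card (s := ({1, ⟨u, hu⟩, ⟨v, hv⟩} : Finset ↥(zpowers c)))
    fun w hw => Finset.mem_filter.2 ⟨Finset.mem_univ w, by
      simp only [Finset.mem_insert, Finset.mem_singleton] at hw
      rcases hw with rfl | rfl | rfl
      exacts [one_pow 2, Subtype.ext (by simp [pow_two, hu2]),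
        Subtype.ext (by simp [pow_two, hv2])]⟩).trans hle
  omega

namespace Cyc

variable (h : Cyc H A j)
include h

theorem commute_j {g : G} : Commute g j ↔ g ∈ H := h.commute_iff h.memj h.jsq h.jne

theorem mem_H_j : j ∈ H := h.mem_H h.memj

theorem cent_eq : centralizer ({j} : Set G) = H :=
  Subgroup.ext fun _ => mem_centralizer_singleton_iff.trans h.commute_j

theorem sylow_shape : ∃ (P : Sylow 2 G) (x : G), x ∈ (P : Subgroup G) ∧ x ∈ H ∧ x ∉ A ∧
    j ∈ (P : Subgroup G) ∧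
      ((∃ n : ℕ, 2 ≤ n ∧ Nonempty (↥(P : Subgroup G) ≃* DihedralGroup n)) ∨
        (Cfsg.IsQuasiDihedral ↥(P : Subgroup G) ∧
          (∀ Q : Subgroup G, IsPGroup 2 ↥Q → Q ≤ H → Nat.card ↥Q ≤ 4) ∧
          ∃ k : ℕ, 2 ≤ k ∧
            Nonempty (↥(P : Subgroup G) ⧸ center ↥(P : Subgroup G) ≃* DihedralGroup k))) := by
  haveI : Fact (Nat.Prime 2) := ⟨Nat.prime_two⟩
  obtain ⟨S⟩ : Nonempty (Sylow 2 ↥H) := inferInstance
  set S0 := (S : Subgroup ↥H).map H.subtype with hS0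
  have hS0p : IsPGroup 2 ↥S0 := S.isPGroup'.map _
  have hS0H : S0 ≤ H := map_subtype_le _
  obtain ⟨x, hxS, hxH, hxA, hx2, hx1⟩ := h.exists_sylow_out S
  have hjS : j ∈ S0 := by
    obtain ⟨k, hk, hkj⟩ := exists_conj_mem_sylow S h.mem_H_j h.jsq
    rwa [(h.commute_j.2 hk).eq, mul_inv_cancel_right] at hkj
  -- `S0 ∩ A` is cyclic
  have hcyc : IsCyclic ↥(A.subgroupOf S0) := by
    refine PGroups.isCyclic_of_small_omega hS0p
      ⟨⟨fun a b => Subtype.ext (Subtype.ext (h.comm a.2 b.2).eq)⟩⟩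
      (zpowers ⟨j, hjS⟩) (fun a ha ha2 => ?_) ?_
    · have ha2' : (a : G) * a = 1 := by
        have := congrArg Subtype.val ha2
        simpa [pow_two] using this
      by_cases ha1 : a = 1
      · exact ha1 ▸ one_mem _
      · have := h.uniq a ha ha2' fun e => ha1 (Subtype.ext e)
        rw [show a = ⟨j, hjS⟩ from Subtype.ext this]
        exact mem_zpowers _
    · rw [Nat.card_zpowers, Subgroup.orderOf_mk, orderOf_eq_two h.jsq h.jne]
  obtain ⟨⟨c, hcA⟩, hc⟩ := IsCyclic.exists_generator (α := ↥(A.subgroupOf S0))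
  have hgen : A.subgroupOf S0 = zpowers c := le_antisymm
    (fun a ha => by
      obtain ⟨i, hi⟩ := mem_zpowers_iff.1 (hc ⟨a, ha⟩)
      exact ⟨i, congrArg Subtype.val hi⟩) (zpowers_le.2 hcA)
  have hidx : (zpowers c).index = 2 := by
    rw [← hgen]
    refine index_eq_two_iff.2 ⟨⟨x, hxS⟩, fun b => ?_⟩
    simp only [mem_subgroupOf, Subgroup.coe_mul, h.mul_mem_iff (hS0H b.2) hxH]
    by_cases hb : (b : G) ∈ A <;> simp [hb, hxA]
  have hcard : Nat.card ↥S0 = 2 * orderOf c := by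
    rw [← (zpowers c).index_mul_card, hidx, Nat.card_zpowers]
  have hjc : (⟨j, hjS⟩ : ↥S0) ∈ zpowers c := hgen ▸ (show (j : G) ∈ A from h.memj)
  have hn2 : 2 ≤ orderOf c := by
    rcases Nat.lt_or_ge (orderOf c) 2 with hlt | hge
    · have := orderOf_pos c
      rw [orderOf_eq_one_iff.1 (show orderOf c = 1 by omega), zpowers_one_eq_bot, mem_bot] at hjc
      exact absurd (congrArg Subtype.val hjc) h.jne
    · exact hge
  have hdih : Nonempty (↥S0 ≃* DihedralGroup (orderOf c)) := by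
    haveI : NeZero (orderOf c) := ⟨(orderOf_pos c).ne'⟩
    refine PGroups.nonempty_mulEquiv_dihedral rfl (y := (⟨x, hxS⟩ : ↥S0)) ?_
      (Subtype.ext (by simp [pow_two, hx2])) ?_ hcard
    · rw [← hgen]; exact hxA
    · exact Subtype.ext (h.inverts hxH hxA hcA)
  obtain ⟨P, hP⟩ := hS0p.exists_le_sylow
  refine ⟨P, x, hP hxS, hxH, hxA, hP hjS, ?_⟩
  have hPH : ∀ y ∈ (P : Subgroup G), y ∈ H → y ∈ S0 := fun y hy hyH =>
    (eq_map_sylow S (P.isPGroup'.to_le inf_le_left) (le_inf hP hS0H)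
      (inf_le_right (a := (P : Subgroup G)))).le ⟨hy, hyH⟩
  by_cases heq : S0 = (P : Subgroup G)
  · obtain ⟨e⟩ := hdih
    exact Or.inl ⟨_, hn2, ⟨(MulEquiv.subgroupCongr heq.symm).trans e⟩⟩
  -- otherwise `S0` is a four-group
  have hc2 : c * c = 1 := by
    by_contra hcc
    obtain ⟨g, hgP, hgS, hgn⟩ := exists_normalizing P.isPGroup' hP heq
    refine hgS (hPH g hgP (h.commute_j.1 ?_))
    have hmem : ∀ (v : ↥S0), v * v ≠ 1 → g * (v : G) * g⁻¹ ∈ A := fun v hv =>
      h.mem_of_sq (hS0H (hgn v v.2)) fun e =>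
        hv (Subtype.ext (sq_eq_of_conj e))
    obtain ⟨i, hi⟩ := mem_zpowers_iff.1 hjc
    have hgj : g * j * g⁻¹ ∈ A := by
      rw [show j = ((c ^ i : ↥S0) : G) by rw [hi], SubgroupClass.coe_zpow, ← conj_zpow]
      exact zpow_mem (hmem c hcc) i
    refine mul_inv_eq_iff_eq_mul.1 (h.uniq _ hgj (conj_mul_self h.jsq g) ?_)
    exact fun e => h.jne (conj_eq_one_iff.1 e)
  have hoc : orderOf c = 2 := orderOf_eq_two hc2 fun e => by rw [e, orderOf_one] at hn2; omega
  rw [hoc] at hcard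
  have hsmall : ∀ Q : Subgroup G, IsPGroup 2 ↥Q → Q ≤ H → Nat.card ↥Q ≤ 4 := by
    intro Q hQ hQH
    obtain ⟨T, hT⟩ := (hQ.comap_subtype (K := H)).exists_le_sylow
    rw [← Nat.card_congr (subgroupOfEquivOfLe hQH).toEquiv]
    refine (Nat.le_of_dvd Nat.card_pos (card_dvd_of_le hT)).trans ?_
    rw [Nat.card_congr (Sylow.equiv T S).toEquiv,
      Nat.card_congr ((S : Subgroup ↥H).equivMapOfInjective H.subtype H.subtype_injective).toEquiv,
      ← hS0, hcard]
  obtain ⟨n, hn⟩ := P.isPGroup'.exists_card_eq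
  have hA4 : Nat.card (S0.subgroupOf (P : Subgroup G)) = 2 ^ 2 := by
    rw [Nat.card_congr (subgroupOfEquivOfLe hP).toEquiv, hcard]; norm_num
  have hself : centralizer (S0.subgroupOf (P : Subgroup G) : Set ↥(P : Subgroup G)) =
      S0.subgroupOf (P : Subgroup G) := by
    refine le_antisymm (fun y hy => ?_) (le_centralizer_iff_isMulCommutative.2
      (IsPGroup.isMulCommutative_of_card_eq_prime_sq hA4))
    refine hPH _ y.2 (h.commute_j.1 ?_)
    exact (congrArg Subtype.val (mem_centralizer_iff.1 hy ⟨j, hP hjS⟩ hjS)).symm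
  have hclass := PGroups.nilpotencyClass_of_self_centralizing n _ hn _ hA4 hself
  have hn3 : 3 ≤ n := by
    by_contra hlt
    refine heq (eq_of_le_of_card_ge hP ?_)
    rw [hn, hcard]
    calc 2 ^ n ≤ 2 ^ 2 := Nat.pow_le_pow_right (by norm_num) (by omega)
      _ = 2 * 2 := by norm_num
  obtain ⟨d, y, hd, hyd, hrel, hquot⟩ := PGroups.maxClass_two hn3 hn hclass
  rcases hrel with ⟨hinv, hy2 | hy2⟩ | ⟨hn4, hconj, hy2⟩
  · haveI : NeZero (2 ^ (n - 1)) := ⟨by positivity⟩
    refine Or.inl ⟨2 ^ (n - 1), ?_, PGroups.nonempty_mulEquiv_dihedral hd hyd hy2 hinv ?_⟩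
    · exact Nat.le_self_pow (by omega) 2
    · rw [hn, ← pow_succ', show n - 1 + 1 = n by omega]
  · -- a quaternion group has one involution
    exfalso
    have hidx' : (zpowers d).index = 2 := by
      have e := (zpowers d).index_mul_card
      rw [Nat.card_zpowers, hd, hn, show (2 : ℕ) ^ n = 2 * 2 ^ (n - 1) by
        rw [← pow_succ', show n - 1 + 1 = n by omega]] at e
      exact Nat.eq_of_mul_eq_mul_right (by positivity) e
    have hin : ∀ w : ↥(P : Subgroup G), w * w = 1 → w ∈ zpowers d := by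
      intro w hw
      by_contra hwd
      have hwy : w * y⁻¹ ∈ zpowers d := (mul_mem_iff_of_index_two hidx').2
        (by simp [hwd, hyd])
      obtain ⟨i, hi⟩ := mem_zpowers_iff.1 hwy
      have hw' : w = d ^ i * y := by rw [hi, inv_mul_cancel_right]
      have hyi : y * d ^ i = d ^ (-i) * y := by
        refine mul_inv_eq_iff_eq_mul.1 ?_
        rw [← conj_zpow, hinv, inv_zpow']
      rw [hw', mul_assoc, ← mul_assoc y, hyi,
        ← mul_assoc, ← mul_assoc, ← zpow_add, add_neg_cancel, zpow_zero, one_mul, ← pow_two, hy2] at hw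
      have := orderOf_dvd_of_pow_eq_one hw
      rw [hd] at this
      have := Nat.pow_dvd_pow_iff_le_right (by norm_num : 1 < 2) |>.1 this
      omega
    refine hxA ?_
    have e := eq_of_mem_zpowers (hin ⟨x, hP hxS⟩ (Subtype.ext hx2)) (hin ⟨j, hP hjS⟩ (Subtype.ext h.jsq))
      (Subtype.ext hx2) (Subtype.ext h.jsq) (fun e => hx1 (congrArg Subtype.val e))
      (fun e => h.jne (congrArg Subtype.val e))
    have e' : x = j := congrArg Subtype.val e
    exact e' ▸ h.memj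
  · refine Or.inr ⟨⟨n - 1, by omega, by rw [hn, show n - 1 + 1 = n by omega], d, y, hd, ?_, ?_⟩, hsmall, 2 ^ (n - 2),
      Nat.le_self_pow (by omega) 2, hquot⟩
    · exact orderOf_eq_prime hy2 fun e => hyd (e ▸ one_mem _)
    · rwa [show n - 1 - 1 = n - 2 by omega]

end Cyc

end Cfsg.Agent.H68.GenDihedral
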