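import Cfsg.Agent.H68.GenDihedral.Elementary
import Cfsg.Agent.H68.GenDihedral.SylowShape
import Cfsg.Agent.H91.RankOneSE.Main
import Cfsg.Agent.Cores.Constrained

/-!
# Passing to `G / O(G)`
-/

set_option autoImplicit false
set_option linter.unusedSectionVars false
set_option linter.style.haveILetI false

namespace Cfsg.Agent.H68.GenDihedral

open Subgroup

universe u

variable {G : Type u} [Group G] [Finite G]

instance oddCore_normal : (Cfsg.oddCore G).Normal :=
  @normal_of_characteristic _ _ _ Cores.pPrimeCore_characteristic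

/-- The inductive hypothesis, from the classification of perfect groups with dihedral Sylow subgroups. -/
theorem perfectHyp (hGW : H91.RankOneSE.PerfectDihedral.{u}) (hD : H63.GW.SylowDType G) :
    H63.GW.PerfectHyp G := by
  intro P hPp hP1 hPO
  haveI := hPp
  haveI : Fact (Nat.Prime 2) := ⟨Nat.prime_two⟩
  obtain ⟨Q⟩ : Nonempty (Sylow 2 ↥P) := inferInstance
  rcases (hD.subgroup P) Q with hcy | ⟨n, hn, he⟩
  · exfalso
    haveI := hcy
    have h2 := H63.GW.isPGroup_of_complement hPO (H63.GW.hasNormalPComplement_of_cyclic Q)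
    haveI := h2.isNilpotent
    haveI : Nontrivial P := (nontrivial_iff_ne_bot P).2 hP1
    exact (Group.IsSolvable.commutator_lt_top_of_nontrivial (G := P)).ne hPp.commutator_eq_top
  · let e0 : P ⧸ Cfsg.oddCore ↥P ≃* P :=
      (QuotientGroup.quotientMulEquivOfEq hPO).trans QuotientGroup.quotientBot
    rcases hGW ↥P Q n hn he with ⟨F, i1, i2, h1, h2, ⟨f⟩⟩ | hf
    · exact Or.inl ⟨F, i1, i2, h1, h2, ⟨e0.symm.trans f⟩⟩
    · obtain ⟨f⟩ := hf
      exact Or.inr ⟨e0.symm.trans f⟩

theorem not_solvable_quotient (hns : ¬ Group.IsSolvable G) (N : Subgroup G) [N.Normal]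
    (hN : Group.IsSolvable ↥N) : ¬ Group.IsSolvable (G ⧸ N) := fun h => by
  haveI := h
  haveI := hN
  exact hns (Group.isSolvable_of_ker_le_range N.subtype (QuotientGroup.mk' N) (by simp))

variable {H A : Subgroup G} {j : G}

/-- The centraliser of the image of `j` is the image of `H`. -/
theorem Cyc.cent_quot (h : Cyc H A j) (y : G ⧸ Cfsg.oddCore G)
    (hy : Commute y (QuotientGroup.mk' (Cfsg.oddCore G) j)) :
    ∃ g ∈ H, QuotientGroup.mk' (Cfsg.oddCore G) g = y := by
  haveI : Fact (Nat.Prime 2) := ⟨Nat.prime_two⟩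
  have hp : IsPGroup 2 ↥(zpowers j) :=
    IsPGroup.of_card (n := 1) (by rw [Nat.card_zpowers, orderOf_eq_two h.jsq h.jne, pow_one])
  have hcop : (Nat.card ↥(Cfsg.oddCore G)).Coprime 2 :=
    Nat.coprime_two_right.2 Cores.odd_card_oddCore
  have key := Cores.map_centralizer_of_coprime (Cfsg.oddCore G) hcop hp
  have hmem : y ∈ centralizer (((zpowers j).map (QuotientGroup.mk' (Cfsg.oddCore G)) :
      Subgroup (G ⧸ Cfsg.oddCore G)) : Set (G ⧸ Cfsg.oddCore G)) := by
    rintro _ ⟨_, ⟨i, rfl⟩, rfl⟩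
    rw [map_zpow]
    exact ((hy.zpow_right i).symm).eq
  rw [← key] at hmem
  obtain ⟨g, hg, rfl⟩ := hmem
  exact ⟨g, h.commute_j.1 (mem_centralizer_iff.1 hg j (mem_zpowers j)).symm, rfl⟩

/-- Non-commuting elements with non-trivial squares centralise each involution of `A₇`. -/
theorem alt_seven_witness (σ : alternatingGroup (Fin 7)) (h2 : σ * σ = 1) (h1 : σ ≠ 1) :
    ∃ u v : alternatingGroup (Fin 7), Commute u σ ∧ Commute v σ ∧ u * u ≠ 1 ∧ v * v ≠ 1 ∧
      ¬ Commute u v := by
  classical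
  have hct : ∀ τ : Equiv.Perm (Fin 7), τ * τ = 1 → τ ≠ 1 → Equiv.Perm.sign τ = 1 →
      τ.cycleType = Multiset.replicate 2 2 := by
    intro τ ht2 ht1 hts
    have hall : ∀ c ∈ τ.cycleType, c = 2 := fun c hc => by
      have hd := Equiv.Perm.dvd_of_mem_cycleType hc
      rw [orderOf_eq_two ht2 ht1] at hd
      exact ((Nat.dvd_prime Nat.prime_two).1 hd).resolve_left
        (Equiv.Perm.one_lt_of_mem_cycleType hc).ne'
    have hrep := Multiset.eq_replicate_card.2 hall
    have hpos : 0 < Multiset.card τ.cycleType := by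
      rw [Multiset.card_pos]
      exact fun e => ht1 (Equiv.Perm.cycleType_eq_zero.1 e)
    have hsum := Equiv.Perm.sum_cycleType τ
    have hle : τ.support.card ≤ 7 := (Finset.card_le_univ _).trans (by simp)
    rw [Equiv.Perm.sign_of_cycleType] at hts
    generalize hk : Multiset.card τ.cycleType = k at hrep hpos hts
    rw [hrep, Multiset.sum_replicate, smul_eq_mul] at hts hsum
    have : k ≤ 3 := by omega
    interval_cases k
    · norm_num at hts
    · exact hrep
    · norm_num at hts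
  obtain ⟨c, hc⟩ := isConj_iff.1 (Equiv.Perm.isConj_iff_cycleType_eq.2
    ((hct (σ : Equiv.Perm (Fin 7)) (congrArg Subtype.val h2) (fun e => h1 (Subtype.ext e))
      (Equiv.Perm.mem_alternatingGroup.1 σ.2)).trans
    (hct (Equiv.swap 0 1 * Equiv.swap 2 3) (by decide) (by decide) (by decide)).symm))
  set u₀ : Equiv.Perm (Fin 7) :=
    Equiv.swap 0 2 * Equiv.swap 2 1 * Equiv.swap 1 3 * Equiv.swap 4 5 with hu₀
  set v₀ : Equiv.Perm (Fin 7) := Equiv.swap 4 5 * Equiv.swap 5 6 with hv₀
  let lift : (w : Equiv.Perm (Fin 7)) → Equiv.Perm.sign w = 1 → alternatingGroup (Fin 7) :=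
    fun w hw => ⟨c⁻¹ * w * c, Equiv.Perm.mem_alternatingGroup.2 (by
      rw [map_mul, map_mul, map_inv, hw, mul_one, inv_mul_cancel])⟩
  have hcomm : ∀ (w : Equiv.Perm (Fin 7)) (hw : Equiv.Perm.sign w = 1),
      Commute w (Equiv.swap 0 1 * Equiv.swap 2 3) → Commute (lift w hw) σ := fun w hw hcw => by
    refine Subtype.ext ?_
    show c⁻¹ * w * c * (σ : Equiv.Perm (Fin 7)) = (σ : Equiv.Perm (Fin 7)) * (c⁻¹ * w * c)
    rw [← hc] at hcw
    have := commute_conj hcw c⁻¹
    simpa [Commute, SemiconjBy, mul_assoc] using this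
  have hsq : ∀ (w : Equiv.Perm (Fin 7)) (hw : Equiv.Perm.sign w = 1),
      w * w ≠ 1 → lift w hw * lift w hw ≠ 1 := fun w hw hne e => hne <| by
    have e' : c⁻¹ * w * c * (c⁻¹ * w * c) = 1 := congrArg Subtype.val e
    simpa [mul_assoc] using conj_mul_self (g := c) e'
  have hu : Equiv.Perm.sign u₀ = 1 := by rw [hu₀]; decide
  have hv : Equiv.Perm.sign v₀ = 1 := by rw [hv₀]; decide
  refine ⟨lift u₀ hu, lift v₀ hv, hcomm _ hu (show _ = _ by decide),
    hcomm _ hv (show _ = _ by decide), hsq _ hu (by decide), hsq _ hv (by decide), fun e => ?_⟩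
  have e' : Commute (c⁻¹ * u₀ * c) (c⁻¹ * v₀ * c) := congrArg Subtype.val e.eq
  have := commute_conj e' c
  simp only [mul_assoc, mul_inv_cancel_left, mul_inv_cancel, mul_one] at this
  revert this
  rw [hu₀, hv₀]
  show ¬ (_ = _)
  decide

end Cfsg.Agent.H68.GenDihedral
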