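import Cfsg.Agent.H68.GenDihedral.Quotient
import Cfsg.Agent.H4.GW.AutShape

/-!
# Dihedral Sylow 2-subgroups
-/

set_option autoImplicit false
set_option linter.unusedSectionVars false
set_option linter.style.haveILetI false

namespace Cfsg.Agent.H68.GenDihedral

open Subgroup

universe u

variable {G : Type u} [Group G] [Finite G] {H A : Subgroup G} {j : G}

/-- A 2-element normalising a Sylow 2-subgroup lies in it. -/
theorem mem_sylow_of_normalizes (P : Sylow 2 G) {g : G} (hg : g ∈ normalizer ((P : Subgroup G) : Set G))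
    {k : ℕ} (hk : g ^ 2 ^ k = 1) : g ∈ (P : Subgroup G) := by
  haveI : Fact (Nat.Prime 2) := ⟨Nat.prime_two⟩
  obtain ⟨i, -, hi⟩ := (Nat.dvd_prime_pow Nat.prime_two).1 (orderOf_dvd_of_pow_eq_one hk)
  have hp : IsPGroup 2 ↥(zpowers g) := IsPGroup.of_card (n := i) (by rw [Nat.card_zpowers, hi])
  have := P.is_maximal' (P.isPGroup'.to_sup_of_normal_left' hp (zpowers_le.2 hg)) le_sup_left
  exact this.le (mem_sup_right (mem_zpowers g))

namespace Cyc

variable (h : Cyc H A j)
include h

/-- The centraliser of a Sylow 2-subgroup through `j` and an outer involution lies in it. -/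
theorem centralizer_sylow_le (P : Sylow 2 G) {x : G} (hxP : x ∈ (P : Subgroup G)) (hxH : x ∈ H)
    (hxA : x ∉ A) (hjP : j ∈ (P : Subgroup G)) :
    centralizer ((P : Subgroup G) : Set G) ≤ (P : Subgroup G) := by
  intro g hg
  have hgH : g ∈ H := h.commute_j.1 (mem_centralizer_iff.1 hg j hjP).symm
  have hg2 : g * g = 1 := by
    by_contra h2
    have h1 := h.inverts hxH hxA (h.mem_of_sq hgH h2)
    rw [mem_centralizer_iff.1 hg x hxP, mul_inv_cancel_right] at h1
    exact h2 (mul_eq_one_iff_eq_inv.2 h1)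
  exact mem_sylow_of_normalizes P (centralizer_le_normalizer _ hg) (k := 1)
    (by rw [pow_one, pow_two, hg2])

/-- Normal subgroups of odd index are everything, for nonsolvable `G`. -/
theorem eq_top_of_odd_index (hns : ¬ Group.IsSolvable G) (hD : H63.GW.SylowDType G) (P : Sylow 2 G)
    {x : G} (hxP : x ∈ (P : Subgroup G)) (hxH : x ∈ H) (hxA : x ∉ A) (hjP : j ∈ (P : Subgroup G))
    (K : Subgroup G) [K.Normal] (hK : Odd K.index) : K = ⊤ := by
  haveI : Fact (Nat.Prime 2) := ⟨Nat.prime_two⟩
  have hPK : (P : Subgroup G) ≤ K := fun y hy => by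
    obtain ⟨k, hk⟩ := P.isPGroup' ⟨y, hy⟩
    have h1 : orderOf (QuotientGroup.mk' K y) ∣ 2 ^ k := (orderOf_map_dvd _ y).trans
      (orderOf_dvd_of_pow_eq_one (congrArg Subtype.val hk))
    have h2 : orderOf (QuotientGroup.mk' K y) ∣ K.index := orderOf_dvd_natCard _
    exact (QuotientGroup.eq_one_iff y).1 (orderOf_eq_one_iff.1
      (Nat.eq_one_of_dvd_coprimes (Nat.Coprime.pow_left k (Nat.coprime_two_left.2 hK)) h1 h2))
  have hCP := h.centralizer_sylow_le P hxP hxH hxA hjP
  suffices hN : normalizer ((P : Subgroup G) : Set G) ≤ K by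
    rw [← Sylow.normalizer_sup_eq_top' P hPK]
    exact (sup_eq_right.2 hN).symm
  by_cases hKl : IsKleinFour ↥(P : Subgroup G)
  swap
  · intro g hg
    obtain ⟨k, m, hm, hgm⟩ := Nat.exists_eq_two_pow_mul_odd (orderOf_pos g).ne'
    have ho : orderOf (g ^ 2 ^ k) = m := by
      rw [orderOf_pow' g (by positivity), hgm, Nat.gcd_mul_right_left,
        Nat.mul_div_cancel_left _ (by positivity)]
    have hmem := hCP (H63.GW.mem_centralizer_of_odd hD P.isPGroup' hKl (pow_mem hg _)
      (ho ▸ Nat.coprime_two_right.2 hm))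
    obtain ⟨i, hi⟩ := P.isPGroup' ⟨_, hmem⟩
    refine hPK (mem_sylow_of_normalizes P hg (k := k + i) ?_)
    rw [pow_add, pow_mul]
    exact congrArg Subtype.val hi
  -- four-group
  have hcomm : (P : Subgroup G) ≤ centralizer ((P : Subgroup G) : Set G) :=
    le_centralizer_iff_isMulCommutative.2 (haveI := hKl; IsKleinFour.isMulCommutative)
  have hker : (P : Subgroup G).normalizerMonoidHom.ker =
      (P : Subgroup G).subgroupOf (normalizer ((P : Subgroup G) : Set G)) := by
    rw [normalizerMonoidHom_ker, le_antisymm hCP hcomm]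
  have hr : (P : Subgroup G).relIndex (normalizer ((P : Subgroup G) : Set G)) = 1 ∨
      (P : Subgroup G).relIndex (normalizer ((P : Subgroup G) : Set G)) = 3 := by
    have hr1 : (P : Subgroup G).relIndex (normalizer ((P : Subgroup G) : Set G)) =
        Nat.card (P : Subgroup G).normalizerMonoidHom.range := by
      rw [← index_ker, hker]; rfl
    have hodd : Odd ((P : Subgroup G).relIndex (normalizer ((P : Subgroup G) : Set G))) := by
      refine Nat.not_even_iff_odd.1 fun he => P.not_dvd_index (he.two_dvd.trans ?_)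
      rw [← relIndex_mul_index (le_normalizer : (P : Subgroup G) ≤ normalizer _)]
      exact dvd_mul_right _ _
    have h24 : Nat.card (P : Subgroup G).normalizerMonoidHom.range ∣ 24 := by
      refine (card_subgroup_dvd_card _).trans ?_
      let ψ : MulAut (P : Subgroup G) →* Equiv.Perm (P : Subgroup G) :=
        { toFun := fun f => f.toEquiv
          map_one' := rfl
          map_mul' := fun _ _ => rfl }
      have hψ : Function.Injective ψ := fun f g hfg => MulEquiv.ext fun v => DFunLike.congr_fun hfg v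
      refine (card_dvd_of_injective ψ hψ).trans ?_
      rw [Nat.card_perm, hKl.card_four]; norm_num [Nat.factorial]
    rw [hr1] at hodd ⊢
    have h8 : Nat.card (P : Subgroup G).normalizerMonoidHom.range ∣ 3 :=
      (Nat.Coprime.dvd_mul_left (Nat.Coprime.pow_right 3 (Nat.coprime_two_right.2 hodd))).1
        (show _ ∣ 2 ^ 3 * 3 from h24)
    exact (Nat.dvd_prime Nat.prime_three).1 h8
  set N := normalizer ((P : Subgroup G) : Set G) with hNdef
  have hmul := relIndex_mul_relIndex (P : Subgroup G) (N ⊓ K) N (le_inf le_normalizer hPK) inf_le_left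
  have hcases : (P : Subgroup G).relIndex (N ⊓ K) = 1 ∨ (N ⊓ K).relIndex N = 1 := by
    rcases hr with hr | hr <;> rw [hr] at hmul
    · exact Or.inl (mul_eq_one.1 hmul).1
    · rcases (Nat.dvd_prime Nat.prime_three).1 ⟨_, hmul.symm⟩ with h1 | h1
      · exact Or.inl h1
      · rw [h1] at hmul; exact Or.inr (by omega)
  rcases hcases with h1 | h1
  swap
  · exact (relIndex_eq_one.1 h1).trans inf_le_right
  exfalso
  -- Burnside's transfer theorem in `K`
  let P' : Sylow 2 ↥K := P.subtype hPK
  have hle : normalizer ((P' : Subgroup ↥K) : Set ↥K) ≤ centralizer ((P' : Subgroup ↥K) : Set ↥K) := by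
    intro g hg
    have hgN : (g : G) ∈ N := mem_normalizer_iff.2 fun y => by
      refine ⟨fun hy => (mem_normalizer_iff.1 hg ⟨y, hPK hy⟩).1 hy, fun hy => ?_⟩
      have hyK : y ∈ K := by
        have := mul_mem (mul_mem (inv_mem g.2) (hPK hy)) g.2
        simpa [mul_assoc] using this
      exact (mem_normalizer_iff.1 hg ⟨y, hyK⟩).2 hy
    have hgP := relIndex_eq_one.1 h1 (show (g : G) ∈ N ⊓ K from ⟨hgN, g.2⟩)
    exact mem_centralizer_iff.2 fun y hy =>
      Subtype.ext (mem_centralizer_iff.1 (hcomm hgP) _ hy)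
  have hc := MonoidHom.ker_transferSylow_isComplement' P' hle
  set T := (MonoidHom.transferSylow P' hle).ker
  have hTodd : Odd (Nat.card T) := by
    refine Nat.not_even_iff_odd.1 fun he => P'.not_dvd_index ?_
    rw [hc.index_eq_card]
    exact he.two_dvd
  haveI : Group.IsSolvable ↥T := S0205.result hTodd
  haveI : Group.IsNilpotent ↥(P' : Subgroup ↥K) := P'.isPGroup'.isNilpotent
  haveI : Group.IsSolvable ↥K := Group.isSolvable_of_ker_le_range T.subtype
    (MonoidHom.transferSylow P' hle) (by rw [range_subtype])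
  exact hns (solvable_of_odd_index K inferInstance hK)

/-- The dihedral case. -/
theorem dihedral (hGW : H91.RankOneSE.PerfectDihedral.{u}) (hns : ¬ Group.IsSolvable G)
    (P : Sylow 2 G) {x : G} (hxP : x ∈ (P : Subgroup G)) (hxH : x ∈ H) (hxA : x ∉ A)
    (hjP : j ∈ (P : Subgroup G)) {n : ℕ} (hn : 2 ≤ n)
    (hP : Nonempty (↥(P : Subgroup G) ≃* DihedralGroup n)) :
    ∃ (N : Subgroup G) (_ : N.Normal), Odd (Nat.card ↥N) ∧
      ∃ (F : Type) (_ : Field F) (_ : Fintype F), 3 < Fintype.card F ∧
        (Nonempty (G ⧸ N ≃* Matrix.ProjectiveSpecialLinearGroup (Fin 2) F) ∨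
          Nonempty (G ⧸ N ≃* Matrix.ProjGenLinGroup (Fin 2) F)) := by
  haveI : Fact (Nat.Prime 2) := ⟨Nat.prime_two⟩
  have hD := H63.GW.sylowDType_of_dihedral P hn hP
  set O := Cfsg.oddCore G with hOdef
  set π := QuotientGroup.mk' O with hπ
  have hOodd : Odd (Nat.card ↥O) := Cores.odd_card_oddCore
  have hOq : Cfsg.oddCore (G ⧸ O) = ⊥ := Cores.pPrimeCore_quotient_pPrimeCore
  have hDq := hD.quotient O hOodd
  have hnsq : ¬ Group.IsSolvable (G ⧸ O) := not_solvable_quotient hns O (S0205.result hOodd)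
  obtain ⟨L, hLn, hsh, hC⟩ := H63.GW.nonsolvable_shape hDq hOq (perfectHyp hGW hDq) hnsq
  haveI := hLn
  refine ⟨O, inferInstance, hOodd, ?_⟩
  rcases hsh with ⟨F, iF, iF', hodd, hcard, ⟨e⟩⟩ | he
  · obtain ⟨M, hMn, hLM, hMi, -, -, hM⟩ := H4.GW.psl_shape (K := L) hDq hodd hC e
    haveI := hMn
    have htop : M = ⊤ := by
      have h1 := h.eq_top_of_odd_index hns hD P hxP hxH hxA hjP (M.comap π)
        (by rw [index_comap_of_surjective _ (QuotientGroup.mk'_surjective O)]; exact hMi)
      rw [← map_comap_eq_self_of_surjective (QuotientGroup.mk'_surjective O) M, ← hπ, h1,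
        map_top_of_surjective _ (QuotientGroup.mk'_surjective O)]
    refine ⟨F, iF, iF', hcard, ?_⟩
    rcases hM with hM | ⟨⟨f⟩⟩
    · exact Or.inl ⟨topEquiv.symm.trans ((MulEquiv.subgroupCongr (htop.symm.trans hM)).trans e)⟩
    · exact Or.inr ⟨topEquiv.symm.trans ((MulEquiv.subgroupCongr htop.symm).trans f)⟩
  · exfalso
    obtain ⟨e⟩ := he
    have hK := H4.GW.alt_shape (K := L) hDq hC e
    let f : G ⧸ O ≃* alternatingGroup (Fin 7) :=
      topEquiv.symm.trans ((MulEquiv.subgroupCongr hK.symm).trans e)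
    have hj2 : π j * π j = 1 := by rw [← map_mul, h.jsq, map_one]
    have hj1 : π j ≠ 1 := fun e1 => by
      have := orderOf_dvd_natCard O ((QuotientGroup.eq_one_iff j).1 e1)
      rw [orderOf_eq_two h.jsq h.jne] at this
      exact Nat.not_even_iff_odd.2 hOodd (even_iff_two_dvd.2 this)
    obtain ⟨u, v, hu, hv, hu2, hv2, huv⟩ := alt_seven_witness (f (π j))
      (by rw [← map_mul, hj2, map_one]) (fun e1 => hj1 (f.injective (e1.trans (map_one f).symm)))
    have key : ∀ w, Commute w (f (π j)) → w * w ≠ 1 → ∃ a ∈ A, f (π a) = w := by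
      intro w hw hw2
      obtain ⟨g, hg, hgw⟩ := h.cent_quot (f.symm w) (by
        have := hw.map f.symm
        rwa [f.symm_apply_apply] at this)
      refine ⟨g, h.mem_of_sq hg fun e1 => hw2 ?_, by rw [hgw, f.apply_symm_apply]⟩
      rw [← f.apply_symm_apply w, ← hgw, ← map_mul, ← map_mul, e1, map_one, map_one]
    obtain ⟨a, ha, rfl⟩ := key u hu hu2
    obtain ⟨b, hb, rfl⟩ := key v hv hv2
    exact huv ((((h.comm ha hb).map π).map f))

end Cyc

end Cfsg.Agent.H68.GenDihedral
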