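import Mathlib.FieldTheory.Finite.Basic
import Mathlib.GroupTheory.Abelianization.Defs
import Mathlib.Tactic.LinearCombination
import Cfsg.Agent.Linear.Order

/-!
# `SL(2, F)` in characteristic two
-/

set_option autoImplicit false
set_option linter.unusedSectionVars false
set_option linter.style.haveILetI false

namespace Cfsg.Agent.H68.GenDihedral

open Matrix

variable {F : Type} [Field F] [Fintype F] [CharP F 2]

theorem center_SL_two : Subgroup.center (SpecialLinearGroup (Fin 2) F) = ⊥ := by
  rw [Subgroup.eq_bot_iff_forall]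
  intro A hA
  obtain ⟨r, hr, hA⟩ := Matrix.SpecialLinearGroup.mem_center_iff.1 hA
  rw [Fintype.card_fin] at hr
  have h2 : (2 : F) = 0 := by exact_mod_cast CharP.cast_eq_zero F 2
  have h1 : (r - 1) * (r - 1) = 0 := by linear_combination hr + (1 - r) * h2
  have hr1 : r = 1 := sub_eq_zero.1 (mul_self_eq_zero.1 h1)
  apply Subtype.ext
  rw [← hA, hr1, map_one]
  rfl

theorem nonempty_sl_equiv_psl :
    Nonempty (SpecialLinearGroup (Fin 2) F ≃* ProjectiveSpecialLinearGroup (Fin 2) F) :=
  ⟨QuotientGroup.quotientBot.symm.trans (QuotientGroup.quotientMulEquivOfEq center_SL_two.symm)⟩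

/-- A group of order divisible by four is not `SL(2, 2)` times a group of odd order. -/
theorem three_lt_card {O : Type*} [Finite O] (hO : Odd (Nat.card O))
    (h4 : 4 ∣ Nat.card (SpecialLinearGroup (Fin 2) F × O)) : 3 < Fintype.card F := by
  obtain ⟨⟨n, hn⟩, -, hcard⟩ := FiniteField.card F 2
  rw [Nat.card_prod, Linear.card_SL_two] at h4
  rcases eq_or_ne n 1 with rfl | hn1
  · exfalso
    rw [hcard] at h4
    norm_num at h4
    obtain ⟨k, hk⟩ := hO
    omega
  · rw [hcard, PNat.mk_coe]
    have : 2 ^ 2 ≤ 2 ^ n := Nat.pow_le_pow_right (by norm_num) (by omega)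
    omega

theorem isSimple_SL_two (hF : 3 < Fintype.card F) :
    IsSimpleGroup (SpecialLinearGroup (Fin 2) F) := by
  haveI : IsSimpleGroup (ProjectiveSpecialLinearGroup (Fin 2) F) :=
    ProjectiveSpecialLinearGroup.rank_two_simple (by rw [Nat.card_eq_fintype_card]; omega)
  obtain ⟨e⟩ := nonempty_sl_equiv_psl (F := F)
  exact e.isSimpleGroup_congr.2 inferInstance

theorem commutator_SL_two (hF : 3 < Fintype.card F) :
    commutator (SpecialLinearGroup (Fin 2) F) = ⊤ := by
  haveI := isSimple_SL_two hF
  refine ((inferInstance : (commutator (SpecialLinearGroup (Fin 2) F)).Normal)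
    |>.eq_bot_or_eq_top).resolve_left fun h => ?_
  have hc : Subgroup.center (SpecialLinearGroup (Fin 2) F) = ⊤ :=
    eq_top_iff.2 fun a _ => Subgroup.mem_center_iff.2 fun b =>
      commutatorElement_eq_one_iff_commute.1 (Subgroup.mem_bot.1
        (h ▸ Subgroup.commutator_mem_commutator (Subgroup.mem_top b) (Subgroup.mem_top a)))
  exact bot_ne_top (center_SL_two.symm.trans hc)

/-- The 2-elements square to one. -/
theorem sq_eq_one_of_pow_four {s : SpecialLinearGroup (Fin 2) F} (hs : s ^ 4 = 1) :
    s ^ 2 = 1 := by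
  set M : Matrix (Fin 2) (Fin 2) F := (s : Matrix (Fin 2) (Fin 2) F) with hMdef
  set τ := M 0 0 + M 1 1 with hτ
  have h2 : (2 : F) = 0 := by exact_mod_cast CharP.cast_eq_zero F 2
  have hdet : M 0 0 * M 1 1 - M 0 1 * M 1 0 = 1 := by
    rw [← Matrix.det_fin_two]; exact s.2
  have hM2 : M * M = τ • M + 1 := by
    ext i j
    fin_cases i <;> fin_cases j <;>
      simp [Matrix.mul_apply, Fin.sum_univ_two, hτ]
    · linear_combination -hdet - h2
    · ring
    · ring
    · linear_combination -hdet - h2
  have h4 : M * M * (M * M) = 1 := by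
    have := congrArg (fun t : SpecialLinearGroup (Fin 2) F => (t : Matrix (Fin 2) (Fin 2) F)) hs
    simpa [pow_succ, mul_assoc] using this
  have hτ0 : τ = 0 := by
    rw [hM2] at h4
    have h5 : (τ * τ) • (M * M) = (0 : Matrix (Fin 2) (Fin 2) F) := by
      have h6 : (τ • M + 1) * (τ • M + 1) = (τ * τ) • (M * M) + (2 : F) • (τ • M) + 1 := by
        simp only [add_mul, mul_add, one_mul, mul_one, smul_mul_assoc, mul_smul_comm, smul_add, smul_smul,
          two_mul, add_smul]
        abel
      rw [h6, h2, zero_smul, add_zero, add_eq_right] at h4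
      exact h4
    by_contra hne
    have h7 : M * M = 0 := (smul_eq_zero.1 h5).resolve_left (mul_ne_zero hne hne)
    have h8 := congrArg Matrix.det h7
    rw [Matrix.det_mul, show M.det = 1 from s.2, Matrix.det_zero] at h8
    simp at h8
  apply Subtype.ext
  show ((s ^ 2 : SpecialLinearGroup (Fin 2) F) : Matrix (Fin 2) (Fin 2) F) = 1
  rw [Matrix.SpecialLinearGroup.coe_pow, sq, ← hMdef, hM2, hτ0, zero_smul, zero_add]

end Cfsg.Agent.H68.GenDihedral
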