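import Cfsg.Agent.H68.GenDihedral.Basic
import Cfsg.Agent.H68.GenDihedral.SLTwo
import Cfsg.Agent.S2202
import Cfsg.Agent.S0205

/-!
# The case of an elementary abelian `H`
-/

set_option autoImplicit false
set_option linter.unusedSectionVars false
set_option linter.style.haveILetI false

namespace Cfsg.Agent.H68.GenDihedral

open Subgroup

universe u

variable {G : Type u} [Group G] [Finite G]

/-- A solvable normal subgroup with odd index forces solvability. -/
theorem solvable_of_odd_index (N : Subgroup G) [N.Normal] (hN : Group.IsSolvable ↥N)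
    (hodd : Odd N.index) : Group.IsSolvable G := by
  haveI := hN
  haveI : Group.IsSolvable (G ⧸ N) := S0205.result (by rwa [← index_eq_card])
  exact Group.isSolvable_of_ker_le_range N.subtype (QuotientGroup.mk' N) (by simp)

/-- Involutions are conjugate into every Sylow 2-subgroup. -/
theorem exists_conj_mem (P : Sylow 2 G) {t : G} (ht : orderOf t = 2) :
    ∃ g : G, g * t * g⁻¹ ∈ (P : Subgroup G) := by
  haveI : Fact (Nat.Prime 2) := ⟨Nat.prime_two⟩
  have hp : IsPGroup 2 (zpowers t) := IsPGroup.of_card (n := 1) (by rw [Nat.card_zpowers, ht, pow_one])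
  obtain ⟨Q, hQ⟩ := hp.exists_le_sylow
  obtain ⟨g, hg⟩ := MulAction.exists_smul_eq G Q P
  refine ⟨g, ?_⟩
  rw [← hg]
  exact Subgroup.smul_mem_pointwise_smul _ (MulAut.conj g) _ (hQ (mem_zpowers t))

variable {H A : Subgroup G}

theorem Hyp.elementary (h : Hyp H A) (he : ∀ x ∈ H, x * x = 1) (hns : ¬ Group.IsSolvable G) :
    ∃ (F : Type) (_ : Field F) (_ : Fintype F), 3 < Fintype.card F ∧
      Nonempty (G ≃* Matrix.ProjectiveSpecialLinearGroup (Fin 2) F) := by
  classical
  haveI : Fact (Nat.Prime 2) := ⟨Nat.prime_two⟩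
  have hcomm : ∀ a ∈ H, ∀ b ∈ H, Commute a b := fun a ha b hb => by
    show a * b = b * a
    rw [← inv_eq_self (he _ (mul_mem ha hb)), mul_inv_rev, inv_eq_self (he a ha),
      inv_eq_self (he b hb)]
  have hC : ∀ a ∈ H, a ≠ 1 → ∀ g, Commute g a → g ∈ H := fun a ha h1 =>
    h.cent a ha (he a ha) h1 fun b hb => hcomm b hb a ha
  have hHp : IsPGroup 2 ↥H := fun x => ⟨1, Subtype.ext (by rw [SubgroupClass.coe_pow, pow_one, pow_two]; exact he x x.2)⟩
  obtain ⟨P, hHP⟩ := hHp.exists_le_sylow
  haveI : Nontrivial ↥H := Finite.one_lt_card_iff_nontrivial.1 (by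
    have h4 := h.four
    have : 0 < Nat.card ↥H := Nat.card_pos
    omega)
  obtain ⟨a, ha1⟩ := exists_ne (1 : ↥H)
  -- `H` is a Sylow 2-subgroup
  have hPH : (P : Subgroup G) ≤ H := by
    haveI : Nontrivial ↥(P : Subgroup G) :=
      ⟨⟨⟨a, hHP a.2⟩, 1, fun e => ha1 (Subtype.ext (congrArg Subtype.val e :))⟩⟩
    haveI := P.isPGroup'.center_nontrivial
    obtain ⟨z, hz⟩ := exists_ne (1 : center ↥(P : Subgroup G))
    have hzc : ∀ y ∈ (P : Subgroup G), Commute y ((z : ↥(P : Subgroup G)) : G) := fun y hy =>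
      congrArg Subtype.val (mem_center_iff.1 z.2 ⟨y, hy⟩)
    have hzH : ((z : ↥(P : Subgroup G)) : G) ∈ H :=
      hC a a.2 (fun e => ha1 (Subtype.ext e)) _ (hzc a (hHP a.2)).symm
    intro y hy
    exact hC _ hzH (fun e => hz (Subtype.ext (Subtype.ext e))) y (hzc y hy)
  have hab : ∀ t : G, orderOf t = 2 → IsMulCommutative ↥(centralizer ({t} : Set G)) := by
    intro t ht
    obtain ⟨g, hg⟩ := exists_conj_mem P ht
    have hg1 : g * t * g⁻¹ ≠ 1 := fun e => by
      rw [conj_eq_one_iff.1 e, orderOf_one] at ht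
      omega
    have hmem : ∀ u ∈ centralizer ({t} : Set G), g * u * g⁻¹ ∈ H := fun u hu =>
      hC _ (hPH hg) hg1 _ (commute_conj (mem_centralizer_singleton_iff.1 hu) g)
    refine ⟨⟨fun u v => Subtype.ext ?_⟩⟩
    have := commute_conj (hcomm _ (hmem u u.2) _ (hmem v v.2)) g⁻¹
    simpa [mul_assoc, Commute, SemiconjBy] using this
  have h4G : 4 ∣ Nat.card G := h.four.trans (card_subgroup_dvd_card H)
  have hPc : Nat.card ↥(P : Subgroup G) = Nat.card ↥H := by
    rw [le_antisymm hPH hHP]
  rcases S2202.result (even_iff_two_dvd.2 ((by norm_num : 2 ∣ 4).trans h4G)) hab with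
    hcy | hn | ⟨F, _, _, O, _, _, hchar, hO, ⟨e⟩⟩
  · exfalso
    haveI := hcy P
    obtain ⟨c, hc⟩ := IsCyclic.exists_generator (α := ↥(P : Subgroup G))
    have h1 : Nat.card ↥(P : Subgroup G) ≤ 2 := by
      rw [← orderOf_eq_card_of_forall_mem_zpowers hc]
      exact Nat.le_of_dvd two_pos (orderOf_dvd_of_pow_eq_one (Subtype.ext (by
        rw [SubgroupClass.coe_pow, pow_two]; exact he _ (hPH c.2))))
    have h4 := h.four
    have : 0 < Nat.card ↥H := Nat.card_pos
    omega
  · exfalso
    haveI := hn P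
    haveI : Group.IsNilpotent ↥(P : Subgroup G) := P.isPGroup'.isNilpotent
    exact hns (solvable_of_odd_index _ inferInstance
      (Nat.not_even_iff_odd.1 fun hev => P.not_dvd_index hev.two_dvd))
  · haveI := hchar
    have hO1 : ∀ b : O, b = 1 := by
      intro b
      have hat : e (a : G) * (1, b) = (1, b) * e (a : G) :=
        Prod.ext (by simp) (by simp [mul_comm])
      have hmem : e.symm (1, b) ∈ H := by
        refine hC a a.2 (fun e' => ha1 (Subtype.ext e')) _ (e.injective ?_)
        rw [map_mul, map_mul, e.apply_symm_apply, hat]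
      have hb2 : b * b = 1 := by
        have := congrArg (fun y => (e y).2) (he _ hmem)
        simpa using this
      by_contra hb
      have h2 : orderOf b ∣ Nat.card O := orderOf_dvd_natCard b
      rw [orderOf_eq_two hb2 hb] at h2
      exact Nat.not_even_iff_odd.2 hO (even_iff_two_dvd.2 h2)
    haveI : Subsingleton O := ⟨fun b c => (hO1 b).trans (hO1 c).symm⟩
    let e' : G ≃* Matrix.SpecialLinearGroup (Fin 2) F :=
      MulEquiv.ofBijective ((MonoidHom.fst _ _).comp e.toMonoidHom)
        ⟨fun u v huv => e.injective (Prod.ext huv (Subsingleton.elim _ _)),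
          fun s => ⟨e.symm (s, 1), by simp⟩⟩
    obtain ⟨f⟩ := nonempty_sl_equiv_psl (F := F)
    refine ⟨F, inferInstance, inferInstance, three_lt_card hO ?_, ⟨e'.trans f⟩⟩
    rwa [← Nat.card_congr e.toEquiv]

end Cfsg.Agent.H68.GenDihedral
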