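import Mathlib.LinearAlgebra.Matrix.GeneralLinearGroup.Projective
import Mathlib.Tactic.LinearCombination
import Mathlib.Tactic.FieldSimp

/-!
# Involutions of `PGL(2, q)` have centralisers of order at least five
-/

set_option autoImplicit false
set_option linter.style.haveILetI false

namespace Cfsg.Agent.H68.GenDihedral

open Matrix

theorem five_le_card_centralizer {F : Type} [Field F] [Fintype F] (h2 : (2 : F) ≠ 0)
    (hF : 3 < Fintype.card F) (u : ProjGenLinGroup (Fin 2) F) (hu : u * u = 1) (hu1 : u ≠ 1) :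
    5 ≤ Nat.card (Subgroup.centralizer ({u} : Set (ProjGenLinGroup (Fin 2) F))) := by
  classical
  induction u using ProjGenLinGroup.induction_on with | mk g =>
  set M : Matrix (Fin 2) (Fin 2) F := (g : Matrix (Fin 2) (Fin 2) F) with hMdef
  -- `g` is not scalar and its square is
  have hns : ∀ k : F, M ≠ k • 1 := by
    intro k hk
    refine hu1 (ProjGenLinGroup.mk_eq_one.2 (Subgroup.mem_center_iff.2 fun x => Units.ext ?_))
    show (x : Matrix (Fin 2) (Fin 2) F) * M = M * (x : Matrix (Fin 2) (Fin 2) F)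
    rw [hk, mul_smul_comm, mul_one, smul_mul_assoc, one_mul]
  obtain ⟨c, hc⟩ : ∃ c : F, M * M = c • 1 := by
    rw [← map_mul, ProjGenLinGroup.mk_eq_one, GeneralLinearGroup.center_eq_range_scalar] at hu
    obtain ⟨c, hc⟩ := hu
    exact ⟨c, by
      rw [show M * M = ((g * g : GL (Fin 2) F) : Matrix (Fin 2) (Fin 2) F) from rfl, ← hc,
        GeneralLinearGroup.coe_scalar, Matrix.smul_one_eq_diagonal]
      rfl⟩
  obtain ⟨a, b, e, d, hM⟩ : ∃ a b e d, M = !![a, b; e, d] := ⟨_, _, _, _, M.eta_fin_two⟩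
  have e00 := congrFun (congrFun hc 0) 0
  have e01 := congrFun (congrFun hc 0) 1
  have e10 := congrFun (congrFun hc 1) 0
  have e11 := congrFun (congrFun hc 1) 1
  simp [hM, Matrix.mul_apply, Fin.sum_univ_two] at e00 e01 e10 e11
  have hd : d = -a := by
    by_contra hd
    have hne : a + d ≠ 0 := fun h => hd (eq_neg_of_add_eq_zero_right h)
    have hb : b = 0 := (mul_eq_zero.1 (show b * (a + d) = 0 by linear_combination e01)).resolve_right hne
    have he : e = 0 := (mul_eq_zero.1 (show e * (a + d) = 0 by linear_combination e10)).resolve_right hne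
    have had : a = d := sub_eq_zero.1 ((mul_eq_zero.1
      (show (a - d) * (a + d) = 0 by linear_combination e00 - e11)).resolve_right hne)
    refine hns a ?_
    rw [hM, hb, he, ← had]
    ext i j; fin_cases i <;> fin_cases j <;> simp
  subst hd
  -- a matrix anticommuting with `g`
  obtain ⟨h, hdet, hanti⟩ : ∃ h : Matrix (Fin 2) (Fin 2) F, h.det ≠ 0 ∧ M * h = -(h * M) := by
    rcases ne_or_eq b 0 with hb | hb
    · refine ⟨!![1, 0; -(2 * a) / b, -1], by simp [Matrix.det_fin_two_of], ?_⟩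
      rw [hM]
      ext i j
      fin_cases i <;> fin_cases j <;>
        simp [Matrix.mul_apply, Fin.sum_univ_two] <;> field_simp <;> ring
    rcases ne_or_eq e 0 with he | he
    · refine ⟨!![1, -(2 * a) / e; 0, -1], by simp [Matrix.det_fin_two_of], ?_⟩
      rw [hM]
      ext i j
      fin_cases i <;> fin_cases j <;>
        simp [Matrix.mul_apply, Fin.sum_univ_two] <;> field_simp <;> ring
    · refine ⟨!![0, 1; 1, 0], by simp [Matrix.det_fin_two_of], ?_⟩
      rw [hM, hb, he]
      ext i j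
      fin_cases i <;> fin_cases j <;> simp [Matrix.mul_apply, Fin.sum_univ_two]
  obtain ⟨t, ht0, ht⟩ : ∃ t : F, t ≠ 0 ∧ t * t * c ≠ 1 := by
    by_contra! hall
    obtain ⟨t, ht⟩ : ∃ t : F, t ∉ ({0, 1, -1} : Finset F) := by
      by_contra! h'
      have := Finset.card_le_card (show (Finset.univ : Finset F) ⊆ {0, 1, -1} from fun x _ => h' x)
      have := (Finset.card_le_three (a := (0 : F)) (b := 1) (c := -1))
      rw [Finset.card_univ] at *
      omega
    simp only [Finset.mem_insert, Finset.mem_singleton, not_or] at ht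
    have h1 := hall 1 one_ne_zero
    rw [one_mul, one_mul] at h1
    have h3 := hall t ht.1
    rw [h1, mul_one] at h3
    rcases mul_self_eq_one_iff.1 h3 with h4 | h4
    exacts [ht.2.1 h4, ht.2.2 h4]
  set N : Matrix (Fin 2) (Fin 2) F := 1 + t • M with hN
  have hNdet : N.det ≠ 0 := by
    intro h0
    apply ht
    rw [hN, hM, Matrix.det_fin_two] at h0
    simp at h0
    linear_combination -h0 - t * t * e00
  have hMdet : M.det ≠ 0 := g.isUnit.map (Matrix.detMonoidHom (n := Fin 2) (R := F)) |>.ne_zero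
  have hhM : (h * M).det ≠ 0 := by rw [Matrix.det_mul]; exact mul_ne_zero hdet hMdet
  let cl : (X : Matrix (Fin 2) (Fin 2) F) → X.det ≠ 0 → ProjGenLinGroup (Fin 2) F :=
    fun X hX => ProjGenLinGroup.mk (GeneralLinearGroup.mkOfDetNeZero X hX)
  have hmem : ∀ (X : Matrix (Fin 2) (Fin 2) F) (hX : X.det ≠ 0) (k : F), k ≠ 0 →
      M * X = k • (X * M) → cl X hX ∈ Subgroup.centralizer ({ProjGenLinGroup.mk g} : Set _) := by
    intro X hX k hk hMX
    rw [Subgroup.mem_centralizer_singleton_iff, ← map_mul, ← map_mul, ProjGenLinGroup.mk_eq_mk_iff]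
    refine ⟨Units.mk0 k hk, Units.ext ?_⟩
    show X * M * Matrix.scalar (Fin 2) k = M * X
    rw [hMX, Matrix.scalar_apply, ← Matrix.smul_one_eq_diagonal, mul_smul_comm, mul_one]
  have hne : ∀ (X : Matrix (Fin 2) (Fin 2) F) (hX : X.det ≠ 0) (Y : Matrix (Fin 2) (Fin 2) F)
      (hY : Y.det ≠ 0), (∀ k : F, k ≠ 0 → k • X ≠ Y) → cl X hX ≠ cl Y hY := by
    intro X hX Y hY hXY heq
    obtain ⟨k, hk⟩ := ProjGenLinGroup.mk_eq_mk_iff.1 heq
    have hk' : X * Matrix.scalar (Fin 2) (k : F) = Y := congrArg Units.val hk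
    refine hXY k k.ne_zero ?_
    rw [← hk', Matrix.scalar_apply, ← Matrix.smul_one_eq_diagonal, mul_smul_comm, mul_one]
  have hcomm1 : M * (1 : Matrix (Fin 2) (Fin 2) F) = (1 : F) • (1 * M) := by simp
  have hcommM : M * M = (1 : F) • (M * M) := by simp
  have hcommN : M * N = (1 : F) • (N * M) := by simp [hN, mul_add, add_mul]
  have hantih : M * h = (-1 : F) • (h * M) := by rw [hanti, neg_one_smul]
  have hantihM : M * (h * M) = (-1 : F) • (h * M * M) := by
    rw [← mul_assoc, hanti, neg_mul, neg_one_smul]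
  -- commuting and anticommuting matrices are not proportional
  have hmix : ∀ (X Y : Matrix (Fin 2) (Fin 2) F), M * X = (1 : F) • (X * M) →
      M * Y = (-1 : F) • (Y * M) → Y.det ≠ 0 → ∀ k : F, k ≠ 0 → k • X ≠ Y := by
    intro X Y hX hY hYd k hk hkXY
    rw [← hkXY, mul_smul_comm, hX, one_smul, smul_mul_assoc, neg_one_smul, eq_neg_iff_add_eq_zero,
      ← two_smul F, smul_smul] at hY
    have h0 : X * M = 0 := (smul_eq_zero.1 hY).resolve_left (mul_ne_zero h2 hk)
    have h1 := congrArg Matrix.det h0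
    rw [Matrix.det_mul, Matrix.det_zero, mul_eq_zero] at h1
    refine h1.elim (fun h1 => hYd ?_) hMdet
    rw [← hkXY, Matrix.det_smul, h1, mul_zero]
  have h1det : (1 : Matrix (Fin 2) (Fin 2) F).det ≠ 0 := by simp
  let S : Finset (ProjGenLinGroup (Fin 2) F) :=
    {cl 1 h1det, cl M hMdet, cl N hNdet, cl h hdet, cl (h * M) hhM}
  have n12 := hne 1 h1det M hMdet fun k _ hk => hns k hk.symm
  have n13 := hne 1 h1det N hNdet fun k _ hk => hns ((k - 1) / t) <| by
    rw [div_eq_inv_mul, mul_smul, sub_smul, one_smul, hk, hN, add_sub_cancel_left,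
      inv_smul_smul₀ ht0]
  have n23 := hne M hMdet N hNdet fun k _ hk => by
    rw [hN, ← sub_eq_iff_eq_add, ← sub_smul] at hk
    rcases eq_or_ne (k - t) 0 with h0 | h0
    · rw [h0, zero_smul] at hk; exact one_ne_zero hk.symm
    · exact hns (k - t)⁻¹ (by rw [← hk, inv_smul_smul₀ h0])
  have n14 := hne 1 h1det h hdet (hmix _ _ hcomm1 hantih hdet)
  have n15 := hne 1 h1det _ hhM (hmix _ _ hcomm1 hantihM hhM)
  have n24 := hne M hMdet h hdet (hmix _ _ hcommM hantih hdet)
  have n25 := hne M hMdet _ hhM (hmix _ _ hcommM hantihM hhM)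
  have n34 := hne N hNdet h hdet (hmix _ _ hcommN hantih hdet)
  have n35 := hne N hNdet _ hhM (hmix _ _ hcommN hantihM hhM)
  have n45 := hne h hdet _ hhM fun k _ hk => hns k <| by
    have hu' : IsUnit h := (Matrix.isUnit_iff_isUnit_det h).2 (isUnit_iff_ne_zero.2 hdet)
    exact hu'.mul_left_cancel (by rw [← hk, mul_smul_comm, mul_one])
  have hScard : S.card = 5 := by simp [S, n12, n13, n14, n15, n23, n24, n25, n34, n35, n45]
  have hsub : ∀ x ∈ S, x ∈ Subgroup.centralizer ({ProjGenLinGroup.mk g} : Set _) := by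
    intro x hx
    simp only [S, Finset.mem_insert, Finset.mem_singleton] at hx
    rcases hx with rfl | rfl | rfl | rfl | rfl
    exacts [hmem _ _ 1 one_ne_zero hcomm1, hmem _ _ 1 one_ne_zero hcommM,
      hmem _ _ 1 one_ne_zero hcommN, hmem _ _ (-1) (neg_ne_zero.2 one_ne_zero) hantih,
      hmem _ _ (-1) (neg_ne_zero.2 one_ne_zero) hantihM]
  haveI : Finite (ProjGenLinGroup (Fin 2) F) :=
    Finite.of_surjective _ ProjGenLinGroup.mk_surjective
  rw [← hScard, ← Nat.card_eq_finsetCard S]
  exact Nat.card_le_card_of_injective (fun x : S => ⟨x.1, hsub x.1 x.2⟩)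
    fun x y hxy => Subtype.ext (congrArg Subtype.val hxy :)

end Cfsg.Agent.H68.GenDihedral
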