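import Cfsg.Agent.H68.GenDihedral.Quotient
import Cfsg.Agent.H68.GenDihedral.PGLInvolution
import Cfsg.Agent.H4.GW.AutShape
import Cfsg.Agent.H25.InvolutionTransfer
import Cfsg.Agent.H39.SemiDihedralMaximal

/-!
# Semidihedral Sylow 2-subgroups do not occur

`G` has a subgroup of index two with quaternion Sylow 2-subgroups, so by Brauer–Suzuki the image of
the central involution is central in `G / O(G)`, and the quotient by it has dihedral Sylow
2-subgroups and an involution outside the simple subgroup with centraliser of order at most four.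
-/

set_option autoImplicit false
set_option linter.unusedSectionVars false
set_option linter.style.haveILetI false

namespace Cfsg.Agent.H68.GenDihedral

open Subgroup

universe u

/-- Sylow subgroups survive maps with kernels of odd order. -/
theorem nonempty_mapSurjective_equiv {X Y : Type*} [Group X] [Group Y] [Finite X] (f : X →* Y)
    (hf : Function.Surjective f) (hker : Odd (Nat.card f.ker)) (P : Sylow 2 X) :
    (∀ p ∈ (P : Subgroup X), f p = 1 → p = 1) ∧
      Nonempty (↥(P : Subgroup X) ≃* ↥(P.mapSurjective hf : Subgroup Y)) := by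
  haveI : Fact (Nat.Prime 2) := ⟨Nat.prime_two⟩
  have hinj : ∀ p ∈ (P : Subgroup X), f p = 1 → p = 1 := fun p hp h1 => by
    obtain ⟨k, hk⟩ := P.isPGroup' ⟨p, hp⟩
    have e1 : orderOf p ∣ 2 ^ k := orderOf_dvd_of_pow_eq_one (congrArg Subtype.val hk)
    have e2 : orderOf p ∣ Nat.card f.ker := orderOf_dvd_natCard f.ker (MonoidHom.mem_ker.2 h1)
    exact orderOf_eq_one_iff.1
      (Nat.eq_one_of_dvd_coprimes ((Nat.coprime_two_left.2 hker).pow_left k) e1 e2)
  have hi : Function.Injective (f.comp (P : Subgroup X).subtype) :=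
    (injective_iff_map_eq_one _).2 fun p hp => Subtype.ext (hinj p p.2 hp)
  exact ⟨hinj, ⟨(MonoidHom.ofInjective hi).trans (MulEquiv.subgroupCongr (by
    rw [MonoidHom.range_comp, range_subtype]; rfl))⟩⟩

variable {G : Type u} [Group G] [Finite G] {H A : Subgroup G} {j : G}

theorem Cyc.semidihedral (h : Cyc H A j) (hGW : H91.RankOneSE.PerfectDihedral.{u})
    (hns : ¬ Group.IsSolvable G) (P : Sylow 2 G) (hjP : j ∈ (P : Subgroup G))
    (hsd : Cfsg.IsQuasiDihedral ↥(P : Subgroup G))
    (hsmall : ∀ Q : Subgroup G, IsPGroup 2 ↥Q → Q ≤ H → Nat.card ↥Q ≤ 4)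
    {k : ℕ} (hk : 2 ≤ k)
    (hquot : Nonempty (↥(P : Subgroup G) ⧸ center ↥(P : Subgroup G) ≃* DihedralGroup k)) :
    False := by
  classical
  haveI : Fact (Nat.Prime 2) := ⟨Nat.prime_two⟩
  obtain ⟨m, x₀, y₀, hd⟩ := H39.exists_sdGen hsd
  have h16 : 16 ≤ Nat.card ↥(P : Subgroup G) := by
    rw [hd.card, pow_add]
    exact Nat.le_mul_of_pos_left _ (by positivity)
  set zc : ↥(P : Subgroup G) := x₀ ^ (4 * 2 ^ m : ℤ) with hzc
  set z : G := (zc : G) with hz
  have hzo : orderOf z = 2 := by rw [hz, Subgroup.orderOf_coe, hzc, hd.orderOf_z]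
  have hz2 := mul_self_of_orderOf hzo
  have hz1 : z ≠ 1 := fun e => by rw [e, orderOf_one] at hzo; omega
  have hzcent : ∀ p ∈ (P : Subgroup G), Commute p z := fun p hp =>
    congrArg Subtype.val (hd.z_central ⟨p, hp⟩)
  have hzH : z ∈ H := h.commute_j.1 (hzcent j hjP).symm
  -- `j` is not fused to `z`
  have hnf : ∀ g : G, g * j * g⁻¹ ≠ z := by
    intro g e
    have hle : (P : Subgroup G).map (MulAut.conj g⁻¹).toMonoidHom ≤ H := by
      rintro _ ⟨p, hp, rfl⟩
      refine h.commute_j.1 ?_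
      have := commute_conj (hzcent p hp) g⁻¹
      rw [← e, show g⁻¹ * (g * j * g⁻¹) * g⁻¹⁻¹ = j by group] at this
      exact this
    have := hsmall _ (P.isPGroup'.map _) hle
    rw [card_map_of_injective (MulAut.conj g⁻¹).injective] at this
    omega
  have hzA : z ∉ A := fun hzA =>
    hnf 1 (by rw [h.uniq z hzA hz2 hz1]; group)
  set jP : ↥(P : Subgroup G) := ⟨j, hjP⟩ with hjPdef
  obtain ⟨i, hji⟩ : ∃ i : ℤ, jP = x₀ ^ (2 * i) * y₀ := by
    refine (hd.mem_ord_two jP (by
      rw [← Subgroup.orderOf_coe]; exact orderOf_eq_two h.jsq h.jne)).resolve_left fun e => ?_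
    exact hnf 1 (by rw [one_mul, inv_one, mul_one]; exact congrArg Subtype.val e)
  -- a normal subgroup of index two avoiding `j`
  set Q := (hd.evenPart 1).map (P : Subgroup G).subtype with hQ
  have hjQ : j ∉ Q := by
    rintro ⟨q, hq, hqj⟩
    rw [show q = x₀ ^ (2 * i) * y₀ from (Subtype.ext hqj : q = jP).trans hji] at hq
    obtain ⟨r, hr⟩ := hd.out_mem_evenPart.1 hq
    omega
  have hQi : Q.relIndex (P : Subgroup G) = 2 := by
    rw [relIndex, subgroupOf, hQ, comap_map_eq_self_of_injective (subtype_injective _),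
      hd.index_evenPart]
  rcases H25.thompson_transfer P Q (map_subtype_le _) hQi j (orderOf_eq_two h.jsq h.jne) hjP hjQ with
    ⟨M, hMn, hMi, hjM⟩ | ⟨g, q, hq, hqg⟩
  swap
  · have hqo : orderOf q = 2 := by
      rw [← Subgroup.orderOf_coe, show (q : G) = g * j * g⁻¹ from hqg]
      exact orderOf_eq_two (conj_mul_self h.jsq g) fun e => h.jne (conj_eq_one_iff.1 e)
    rcases hd.mem_ord_two q hqo with e | ⟨r, rfl⟩
    · exact hnf g (by rw [← hqg, e]; rfl)
    · obtain ⟨s, hs⟩ := hd.out_mem_evenPart.1 hq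
      omega
  haveI := hMn
  set R := M.subgroupOf (P : Subgroup G) with hR
  have hRi : R.index = 2 := by
    refine index_eq_two_iff.2 ⟨jP, fun b => ?_⟩
    simp only [hR, mem_subgroupOf, Subgroup.coe_mul]
    rw [show ((jP : ↥(P : Subgroup G)) : G) = j from rfl, mul_mem_iff_of_index_two hMi]
    by_cases hb : (b : G) ∈ M <;> simp [hb, hjM]
  have hRshape : IsCyclic ↥R ∨ Nonempty (↥R ≃* QuaternionGroup (2 ^ (m + 1))) := by
    rcases hd.coatom_eq (H39.isCoatom_of_index_two hRi) with e | e | e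
    · rw [e]; exact Or.inl (isCyclic_zpowers x₀)
    · rw [e]; exact Or.inr hd.quaternion_equiv
    · exfalso
      have : jP ∈ R := by
        rw [e, hji, hd.out_mem_evenPart]
        exact ⟨i, by ring⟩
      exact hjM this
  -- the Sylow subgroup of `M`
  set T := (P : Subgroup G) ⊓ M with hT
  have hTi : ¬ 2 ∣ (T.subgroupOf M).index := by
    have h1 := relIndex_mul_index (inf_le_left : T ≤ (P : Subgroup G))
    have h2 := relIndex_mul_index (inf_le_right : T ≤ M)
    rw [show T.relIndex (P : Subgroup G) = 2 by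
      rw [hT, inf_comm, inf_relIndex_right]; exact hRi] at h1
    rw [hMi, ← h1, mul_comm] at h2
    show ¬ 2 ∣ T.relIndex M
    rw [Nat.eq_of_mul_eq_mul_left two_pos h2]
    exact P.not_dvd_index
  let TM : Sylow 2 ↥M :=
    ((P.isPGroup'.to_le (inf_le_left (b := M))).comap_subtype (K := M)).toSylow hTi
  have eTM : Nonempty (↥(TM : Subgroup ↥M) ≃* ↥R) := by
    refine ⟨(MulEquiv.subgroupCongr (IsPGroup.toSylow_coe _ _)).trans
      ((subgroupOfEquivOfLe (inf_le_right (a := (P : Subgroup G)))).trans ?_)⟩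
    exact ((subgroupOfEquivOfLe (inf_le_left : T ≤ (P : Subgroup G))).symm).trans
      (MulEquiv.subgroupCongr (by rw [hR, inf_comm, inf_subgroupOf_right]))
  -- modulo the odd core
  set O := Cfsg.oddCore G with hOdef
  set π := QuotientGroup.mk' O with hπ
  have hπs : Function.Surjective π := QuotientGroup.mk'_surjective O
  have hOodd : Odd (Nat.card ↥O) := Cores.odd_card_oddCore
  have hOq : Cfsg.oddCore (G ⧸ O) = ⊥ := Cores.pPrimeCore_quotient_pPrimeCore
  have hnsq : ¬ Group.IsSolvable (G ⧸ O) := not_solvable_quotient hns O (S0205.result hOodd)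
  have hkerπ : Odd (Nat.card π.ker) := by rwa [hπ, QuotientGroup.ker_mk']
  have hOM : O ≤ M := fun o ho => by
    have h1 : orderOf (QuotientGroup.mk' M o) ∣ Nat.card ↥O :=
      (orderOf_map_dvd _ o).trans (orderOf_dvd_natCard O ho)
    have h2 : orderOf (QuotientGroup.mk' M o) ∣ 2 :=
      hMi ▸ (orderOf_dvd_natCard (QuotientGroup.mk' M o) : _ ∣ Nat.card (G ⧸ M))
    exact (QuotientGroup.eq_one_iff o).1 (orderOf_eq_one_iff.1
      (Nat.eq_one_of_dvd_coprimes (Nat.coprime_two_left.2 hOodd) h2 h1))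
  set Mb := M.map π with hMb
  haveI : Mb.Normal := hMn.map π hπs
  have hMbc : Mb.comap π = M := comap_map_eq_self (by rwa [hπ, QuotientGroup.ker_mk'])
  have hMbi : Mb.index = 2 := by rw [← index_comap_of_surjective Mb hπs, hMbc, hMi]
  have hOMb : Cfsg.oddCore ↥Mb = ⊥ := by
    have h1 := Cores.map_pPrimeCore_le_of_normal (p := 2) Mb
    rw [show Cfsg.pPrimeCore 2 (G ⧸ O) = ⊥ from hOq, le_bot_iff] at h1
    exact (map_eq_bot_iff_of_injective _ Mb.subtype_injective).1 h1
  obtain ⟨-, ⟨eMb⟩⟩ := nonempty_mapSurjective_equiv (π.subgroupMap M)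
    (π.subgroupMap_surjective M) (by
      refine Odd.of_dvd_nat hOodd ?_
      have hle : (π.subgroupMap M).ker.map M.subtype ≤ O := by
        rintro _ ⟨w, hw, rfl⟩
        exact (QuotientGroup.eq_one_iff _).1 (congrArg Subtype.val (MonoidHom.mem_ker.1 hw))
      rw [← card_map_of_injective M.subtype_injective]
      exact card_dvd_of_le hle) TM
  obtain ⟨eR⟩ := eTM
  rcases hRshape with hcyc | ⟨⟨eQ⟩⟩
  · haveI := (eMb.symm.trans eR).isCyclic.2 hcyc
    have h2 := H63.GW.isPGroup_of_complement hOMb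
      (H63.GW.hasNormalPComplement_of_cyclic (TM.mapSurjective (π.subgroupMap_surjective M)))
    haveI := h2.isNilpotent
    haveI : Group.IsNilpotent ((G ⧸ O) ⧸ Mb) :=
      (IsPGroup.of_card (p := 2) (n := 1) (by rw [← index_eq_card, hMbi, pow_one])).isNilpotent
    exact hnsq (Group.isSolvable_of_ker_le_range Mb.subtype (QuotientGroup.mk' Mb) (by simp))
  have hcc : Nat.card (center ↥Mb) = 2 :=
    S0201.result _ m (eMb.symm.trans (eR.trans eQ)) fun N hN hodd => by
      haveI := hN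
      exact le_bot_iff.1 (hOMb ▸ Cores.le_oddCore hodd)
  -- the image of `z` is central
  set Z0 := (center ↥Mb).map Mb.subtype with hZ0
  haveI : Z0.Normal := by rw [hZ0]; infer_instance
  have hZ0c : Nat.card Z0 = 2 := by rw [hZ0, card_map_of_injective Mb.subtype_injective, hcc]
  obtain ⟨c, hc⟩ := exists_prime_orderOf_dvd_card' (G := Z0) 2 (by rw [hZ0c])
  have hco : orderOf (c : G ⧸ O) = 2 := by rw [Subgroup.orderOf_coe, hc]
  have hc1 : (c : G ⧸ O) ≠ 1 := fun e => by rw [e, orderOf_one] at hco; omega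
  have hcZ : zpowers (c : G ⧸ O) = Z0 :=
    PGroups.zpowers_eq_of_card_eq_two hZ0c c.2 hc1
  have hccent : ∀ g : G ⧸ O, Commute g (c : G ⧸ O) := by
    intro g
    have hm : g * c * g⁻¹ ∈ zpowers (c : G ⧸ O) := by
      rw [hcZ]; exact (inferInstance : Z0.Normal).conj_mem _ c.2 g
    exact mul_inv_eq_iff_eq_mul.1 (eq_of_mem_zpowers hm (mem_zpowers _)
      (conj_mul_self (mul_self_of_orderOf hco) g) (mul_self_of_orderOf hco)
      (fun e => hc1 (conj_eq_one_iff.1 e)) hc1)
  obtain ⟨hPinj, -⟩ := nonempty_mapSurjective_equiv π hπs hkerπ P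
  have hzbar : π z = (c : G ⧸ O) := by
    have hcT : (c : G ⧸ O) ∈ (P.mapSurjective hπs : Subgroup (G ⧸ O)) := by
      have hp2 : IsPGroup 2 Z0 := IsPGroup.of_card (n := 1) (by rw [hZ0c, pow_one])
      exact ((Cores.le_pCore hp2).trans (Cores.pCore_le_sylow _)) c.2
    obtain ⟨p, hp, hpc⟩ : ∃ p ∈ (P : Subgroup G), π p = (c : G ⧸ O) := hcT
    have hp1 : (⟨p, hp⟩ : ↥(P : Subgroup G)) ≠ 1 := fun e => hc1 (by
      rw [← hpc, show p = 1 from congrArg Subtype.val e, map_one])
    have hpcent : (⟨p, hp⟩ : ↥(P : Subgroup G)) ∈ center ↥(P : Subgroup G) := by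
      refine mem_center_iff.2 fun q => Subtype.ext ?_
      have h1 : π ((q : G) * p * (q : G)⁻¹ * p⁻¹) = 1 := by
        rw [map_mul, map_mul, map_mul, map_inv, map_inv, hpc, (hccent (π q)).eq,
          mul_inv_cancel_right, mul_inv_cancel]
      have h2 := hPinj _ (mul_mem (mul_mem (mul_mem q.2 hp) (inv_mem q.2)) (inv_mem hp)) h1
      exact mul_inv_eq_iff_eq_mul.1 (mul_inv_eq_one.1 h2)
    have hzmem : zc ∈ center ↥(P : Subgroup G) := mem_center_iff.2 hd.z_central
    have e := PGroups.zpowers_eq_of_card_eq_two hd.card_center hpcent hp1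
    have hmem : zc ∈ zpowers (⟨p, hp⟩ : ↥(P : Subgroup G)) := e ▸ hzmem
    have hp2 : (⟨p, hp⟩ : ↥(P : Subgroup G)) * ⟨p, hp⟩ = 1 := by
      have := (pow_card_eq_one' (x := (⟨⟨p, hp⟩, hpcent⟩ : center ↥(P : Subgroup G))))
      rw [hd.card_center, pow_two] at this
      exact congrArg Subtype.val this
    have := eq_of_mem_zpowers hmem (mem_zpowers _) (Subtype.ext hz2) hp2
      (fun e => hz1 (congrArg Subtype.val e)) hp1
    rw [hz, this, ← hpc]
  -- the centraliser of the image of `j` has at most four elements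
  have hjb1 : π j ≠ 1 := fun e => h.jne (hPinj j hjP e)
  have hCj : Nat.card (centralizer ({π j} : Set (G ⧸ O))) ≤ 4 := by
    have hle : centralizer ({π j} : Set (G ⧸ O)) ≤ H.map π := fun y hy => by
      obtain ⟨g, hg, hgy⟩ := h.cent_quot y (mem_centralizer_singleton_iff.1 hy)
      exact ⟨g, hg, hgy⟩
    refine (Nat.le_of_dvd Nat.card_pos (card_dvd_of_le hle)).trans ?_
    have hexp : ∀ g ∈ H, π g * π g = 1 := fun g hg => by
      by_cases hgA : g ∈ A
      · have e := congrArg π (h.inverts hzH hzA hgA)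
        rw [map_mul, map_mul, map_inv, map_inv, hzbar, ← (hccent (π g)).eq,
          mul_inv_cancel_right] at e
        exact mul_eq_one_iff_eq_inv.2 e
      · rw [← map_mul, h.sq g hg hgA, map_one]
    have hp : IsPGroup 2 ↥(H.map π) := by
      rintro ⟨_, g, hg, rfl⟩
      exact ⟨1, Subtype.ext (by rw [SubgroupClass.coe_pow, pow_one, pow_two]; exact hexp g hg)⟩
    obtain ⟨a, ha⟩ := hp.exists_card_eq
    have hdvd : 2 ^ a ∣ Nat.card ↥H := by
      rw [← ha]
      exact card_dvd_of_surjective (π.subgroupMap H) (π.subgroupMap_surjective H)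
    obtain ⟨K, hK⟩ := Sylow.exists_subgroup_card_pow_prime (G := ↥H) 2 hdvd
    have := hsmall (K.map H.subtype) ((IsPGroup.of_card hK).map _) (map_subtype_le _)
    rw [card_map_of_injective H.subtype_injective, hK] at this
    rwa [ha]
  -- the quotient by the image of `z`
  set Z := zpowers (c : G ⧸ O) with hZ
  haveI : Z.Normal := hcZ ▸ (inferInstance : Z0.Normal)
  have hZc : Nat.card Z = 2 := by rw [hZ, Nat.card_zpowers, hco]
  set μ := QuotientGroup.mk' Z with hμ
  have hμs : Function.Surjective μ := QuotientGroup.mk'_surjective Z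
  have hψs : Function.Surjective (μ.comp π) := hμs.comp hπs
  have hZcase : ∀ v ∈ Z, v = 1 ∨ v = (c : G ⧸ O) := fun v hv => by
    by_cases hv1 : v = 1
    · exact Or.inl hv1
    · refine Or.inr (eq_of_mem_zpowers hv (mem_zpowers _) ?_ (mul_self_of_orderOf hco) hv1 hc1)
      obtain ⟨r, rfl⟩ := mem_zpowers_iff.1 hv
      rw [← zpow_add, ← two_mul, zpow_mul, zpow_two, mul_self_of_orderOf hco, one_zpow]
  have hDY : H63.GW.SylowDType ((G ⧸ O) ⧸ Z) := by
    refine H63.GW.sylowDType_of_sylow (P := P.mapSurjective hψs) (Or.inr ⟨k, hk, ?_⟩)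
    obtain ⟨eD⟩ := hquot
    let f : ↥(P : Subgroup G) →* (G ⧸ O) ⧸ Z := (μ.comp π).comp (P : Subgroup G).subtype
    have hker : f.ker = center ↥(P : Subgroup G) := by
      ext p
      rw [MonoidHom.mem_ker]
      show μ (π (p : G)) = 1 ↔ _
      rw [hμ, QuotientGroup.mk'_apply, QuotientGroup.eq_one_iff]
      constructor
      · intro hp
        rcases hZcase _ hp with e | e
        · rw [show p = 1 from Subtype.ext (hPinj p p.2 e)]; exact one_mem _
        · refine mem_center_iff.2 fun q => ?_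
          have hpz : p = zc := by
            refine Subtype.ext (mul_inv_eq_one.1 (hPinj _ (mul_mem p.2 (inv_mem zc.2)) ?_))
            rw [map_mul, map_inv, e, ← hzbar, hz, mul_inv_cancel]
          rw [hpz]; exact hd.z_central q
      · intro hp
        have e := PGroups.zpowers_eq_of_card_eq_two hd.card_center
          (mem_center_iff.2 hd.z_central : zc ∈ _) fun e => hz1 (congrArg Subtype.val e)
        obtain ⟨r, hr⟩ := mem_zpowers_iff.1 (e ▸ hp : p ∈ zpowers zc)
        rw [← hr, SubgroupClass.coe_zpow, map_zpow, ← hz, hzbar]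
        exact zpow_mem (mem_zpowers _) r
    exact ⟨(MulEquiv.subgroupCongr (by rw [MonoidHom.range_comp, range_subtype]; rfl)).trans
      (((QuotientGroup.quotientKerEquivRange f).symm.trans
        (QuotientGroup.quotientMulEquivOfEq hker)).trans eD)⟩
  have hOY : Cfsg.oddCore ((G ⧸ O) ⧸ Z) = ⊥ := by
    set N := Cfsg.oddCore ((G ⧸ O) ⧸ Z) with hN
    set N' := N.comap μ with hN'
    have hidx : N'.index = N.index := index_comap_of_surjective N hμs
    have hcard : Nat.card N' = 2 * Nat.card N := by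
      have h1 := card_mul_index N'
      rw [hidx, card_eq_card_quotient_mul_card_subgroup Z, hZc, ← card_mul_index N] at h1
      exact Nat.eq_of_mul_eq_mul_right (Nat.pos_of_ne_zero index_ne_zero_of_finite) (h1.trans (by ring))
    obtain ⟨S⟩ : Nonempty (Sylow 2 ↥N') := inferInstance
    haveI : IsCyclic ↥(S : Subgroup ↥N') := by
      refine isCyclic_of_prime_card (p := 2) ?_
      rw [S.card_eq_multiplicity, hcard, Nat.factorization_mul two_ne_zero Nat.card_pos.ne']
      simp only [Finsupp.add_apply, Nat.Prime.factorization_self Nat.prime_two]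
      rw [Nat.factorization_eq_zero_of_not_dvd fun h' =>
        Nat.not_even_iff_odd.2 Cores.odd_card_oddCore (even_iff_two_dvd.2 h')]
      rfl
    have hON : Cfsg.oddCore ↥N' = ⊥ := by
      have h1 := Cores.map_pPrimeCore_le_of_normal (p := 2) N'
      rw [show Cfsg.pPrimeCore 2 (G ⧸ O) = ⊥ from hOq, le_bot_iff] at h1
      exact (map_eq_bot_iff_of_injective _ N'.subtype_injective).1 h1
    obtain ⟨a, ha⟩ := (H63.GW.isPGroup_of_complement hON
      (H63.GW.hasNormalPComplement_of_cyclic S)).exists_card_eq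
    have hd' : Nat.card N ∣ 2 ^ a := ha ▸ hcard ▸ Dvd.intro_left 2 rfl
    exact card_eq_one.1 (Nat.eq_one_of_dvd_coprimes
      ((Nat.coprime_two_left.2 (Cores.odd_card_oddCore (G := (G ⧸ O) ⧸ Z))).pow_left a).symm dvd_rfl hd')
  have hnsY : ¬ Group.IsSolvable ((G ⧸ O) ⧸ Z) := not_solvable_quotient hnsq Z (by
    haveI : Group.IsNilpotent ↥Z := (IsPGroup.of_card (p := 2) (n := 1) (by rw [hZc, pow_one])).isNilpotent
    infer_instance)
  obtain ⟨L, hLn, hsh, hC⟩ := H63.GW.nonsolvable_shape hDY hOY (perfectHyp hGW hDY) hnsY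
  haveI := hLn
  set jh := μ (π j) with hjh
  have hCjh : Nat.card (centralizer ({jh} : Set ((G ⧸ O) ⧸ Z))) ≤ 4 := by
    set W := (centralizer ({jh} : Set ((G ⧸ O) ⧸ Z))).comap μ with hW
    have hWc : Nat.card W = 2 * Nat.card (centralizer ({jh} : Set ((G ⧸ O) ⧸ Z))) := by
      have h1 := card_mul_index W
      rw [hW, index_comap_of_surjective _ hμs, card_eq_card_quotient_mul_card_subgroup Z, hZc,
        ← card_mul_index (centralizer ({jh} : Set ((G ⧸ O) ⧸ Z)))] at h1
      exact Nat.eq_of_mul_eq_mul_right (Nat.pos_of_ne_zero index_ne_zero_of_finite) (h1.trans (by ring))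
    have hmem : ∀ w ∈ W, w * π j * w⁻¹ * (π j)⁻¹ ∈ Z := fun w hw => by
      refine (QuotientGroup.eq_one_iff _).1 ?_
      show μ (w * π j * w⁻¹ * (π j)⁻¹) = 1
      rw [map_mul, map_mul, map_mul, map_inv, map_inv,
        show μ w * μ (π j) = μ (π j) * μ w from mem_centralizer_singleton_iff.1 hw,
        mul_inv_cancel_right, mul_inv_cancel]
    have hcomm : ∀ v ∈ Z, ∀ g : G ⧸ O, Commute g v := fun v hv g => by
      rcases hZcase v hv with rfl | rfl
      exacts [Commute.one_right g, hccent g]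
    let d : ↥W →* ↥Z :=
      MonoidHom.mk' (fun w => ⟨(w : G ⧸ O) * π j * (w : G ⧸ O)⁻¹ * (π j)⁻¹, hmem w w.2⟩) fun v w => by
        refine Subtype.ext ?_
        show (v : G ⧸ O) * w * π j * ((v : G ⧸ O) * w)⁻¹ * (π j)⁻¹ =
          (v : G ⧸ O) * π j * (v : G ⧸ O)⁻¹ * (π j)⁻¹ * ((w : G ⧸ O) * π j * (w : G ⧸ O)⁻¹ * (π j)⁻¹)
        have e := (hcomm _ (hmem w w.2) ((v : G ⧸ O) * π j * (v : G ⧸ O)⁻¹ * (π j)⁻¹)).eq
        have e' := (hcomm _ (hmem w w.2) (v : G ⧸ O)).eq
        rw [e]
        calc _ = (v : G ⧸ O) * ((w : G ⧸ O) * π j * (w : G ⧸ O)⁻¹ * (π j)⁻¹) *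
              (π j * (v : G ⧸ O)⁻¹ * (π j)⁻¹) := by group
          _ = _ := by rw [e']; group
    have hk4 : Nat.card d.ker ≤ 4 := by
      refine le_trans ?_ hCj
      refine Nat.card_le_card_of_injective (fun w : d.ker =>
        (⟨((w : ↥W) : G ⧸ O), mem_centralizer_singleton_iff.2 ?_⟩ :
          centralizer ({π j} : Set (G ⧸ O)))) fun v w e => Subtype.ext (Subtype.ext (congrArg Subtype.val e :))
      have h1 : ((w : ↥W) : G ⧸ O) * π j * ((w : ↥W) : G ⧸ O)⁻¹ * (π j)⁻¹ = 1 :=
        congrArg Subtype.val (MonoidHom.mem_ker.1 w.2)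
      exact mul_inv_eq_iff_eq_mul.1 (mul_inv_eq_one.1 h1)
    have h8 : Nat.card W ≤ 8 := by
      rw [← d.ker.card_mul_index, index_ker]
      calc Nat.card d.ker * Nat.card d.range ≤ 4 * 2 :=
            Nat.mul_le_mul hk4 ((Nat.le_of_dvd Nat.card_pos (card_subgroup_dvd_card _)).trans hZc.le)
        _ = 8 := by norm_num
    omega
  have hcMb : (c : G ⧸ O) ∈ Mb := map_subtype_le _ c.2
  set MY := Mb.map μ with hMY
  haveI : MY.Normal := (inferInstance : Mb.Normal).map μ hμs
  have hMYc : MY.comap μ = Mb :=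
    comap_map_eq_self (by rw [hμ, QuotientGroup.ker_mk', hZ]; exact zpowers_le.2 hcMb)
  have hMYi : MY.index = 2 := by rw [← index_comap_of_surjective MY hμs, hMYc, hMbi]
  have hjMY : jh ∉ MY := fun hm => by
    have h1 : π j ∈ Mb := hMYc ▸ (show π j ∈ MY.comap μ from hm)
    exact hjM (hMbc ▸ (show j ∈ Mb.comap π from h1))
  have hLMY : L ≤ MY := by
    haveI := hsh.isSimpleGroup
    rcases IsSimpleGroup.eq_bot_or_eq_top_of_normal (MY.subgroupOf L) inferInstance with e | e
    · exfalso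
      let f : ↥L →* ((G ⧸ O) ⧸ Z) ⧸ MY := (QuotientGroup.mk' MY).comp L.subtype
      have hf : Function.Injective f := (injective_iff_map_eq_one _).2 fun l hl => by
        have : l ∈ MY.subgroupOf L := (QuotientGroup.eq_one_iff (l : (G ⧸ O) ⧸ Z)).1 hl
        rwa [e, mem_bot] at this
      haveI : IsCyclic (((G ⧸ O) ⧸ Z) ⧸ MY) :=
        isCyclic_of_prime_card (p := 2) (by rw [← index_eq_card, hMYi])
      have hle : L ≤ centralizer (L : Set ((G ⧸ O) ⧸ Z)) := fun a ha => mem_centralizer_iff.2 fun b hb =>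
        congrArg Subtype.val (hf (show f (⟨b, hb⟩ * ⟨a, ha⟩) = f (⟨a, ha⟩ * ⟨b, hb⟩) by
          rw [map_mul, map_mul]
          exact IsCyclic.isMulCommutative.is_comm.comm _ _))
      rw [hC, le_bot_iff] at hle
      exact (nontrivial_iff_ne_bot L).1 inferInstance hle
    · exact subgroupOf_eq_top.1 e
  have hjh1 : jh ≠ 1 := fun e => hjMY (e ▸ one_mem MY)
  have hjh2 : jh * jh = 1 := by rw [hjh, ← map_mul, ← map_mul, h.jsq, map_one, map_one]
  rcases hsh with ⟨F, iF, iF', hodd, hcard, ⟨e⟩⟩ | he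
  · obtain ⟨M₂, hM₂n, -, hM₂i, -, -, hM₂⟩ := H4.GW.psl_shape (K := L) hDY hodd hC e
    haveI := hM₂n
    have hjM₂ : jh ∈ M₂ := by
      have h1 : orderOf (QuotientGroup.mk' M₂ jh) ∣ 2 :=
        orderOf_dvd_of_pow_eq_one (by rw [← map_pow, pow_two, hjh2, map_one])
      have h2 : orderOf (QuotientGroup.mk' M₂ jh) ∣ M₂.index :=
        orderOf_dvd_natCard (QuotientGroup.mk' M₂ jh)
      exact (QuotientGroup.eq_one_iff jh).1 (orderOf_eq_one_iff.1
        (Nat.eq_one_of_dvd_coprimes (Nat.coprime_two_left.2 hM₂i) h1 h2))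
    rcases hM₂ with rfl | ⟨⟨f⟩⟩
    · exact hjMY (hLMY hjM₂)
    have h5 := five_le_card_centralizer (H4.GW.two_ne hodd) hcard (f ⟨jh, hjM₂⟩)
      (by rw [← map_mul, ← map_one f]; exact congrArg f (Subtype.ext hjh2))
      (fun e1 => hjh1 (congrArg Subtype.val (f.injective (e1.trans (map_one f).symm))))
    have hle : Nat.card (centralizer ({f ⟨jh, hjM₂⟩} : Set (Matrix.ProjGenLinGroup (Fin 2) F))) ≤
        Nat.card (centralizer ({jh} : Set ((G ⧸ O) ⧸ Z))) := by
      refine Nat.card_le_card_of_injective (fun w =>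
        ⟨((f.symm (w : Matrix.ProjGenLinGroup (Fin 2) F) : ↥M₂) : (G ⧸ O) ⧸ Z),
          mem_centralizer_singleton_iff.2 ?_⟩) fun v w e1 => ?_
      · have := congrArg f.symm (mem_centralizer_singleton_iff.1 w.2)
        rw [map_mul, map_mul, f.symm_apply_apply] at this
        exact congrArg Subtype.val this
      · exact Subtype.ext (f.symm.injective (Subtype.ext (congrArg Subtype.val e1 :)))
    omega
  · obtain ⟨e⟩ := he
    have htop := H4.GW.alt_shape (K := L) hDY hC e
    exact hjMY (hLMY (htop ▸ mem_top jh))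

end Cfsg.Agent.H68.GenDihedral
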