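import Cfsg.Agent.H68.GenDihedral.Noncyclic
import Cfsg.Agent.H68.GenDihedral.Dihedral
import Cfsg.Agent.H68.GenDihedral.Semidihedral

/-!
# Nonsolvable groups with a self-centralising generalized dihedral subgroup

Granted the classification of perfect groups with dihedral Sylow 2-subgroups, such a group is
`PSL(2, q)` or `PGL(2, q)` modulo a normal subgroup of order odd or twice odd.
-/

set_option autoImplicit false
set_option linter.unusedSectionVars false
set_option linter.style.haveILetI false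

namespace Cfsg.Agent.H68.GenDihedral

open Subgroup

universe u

theorem main (hGW : H91.RankOneSE.PerfectDihedral.{u}) {G : Type u} [Group G] [Finite G]
    (H A : Subgroup G) (hAH : A < H) (hD : ∀ x ∈ H, x ∉ A → x ^ 2 = 1)
    (h4 : 4 ∣ Nat.card ↥H)
    (hC : ∀ j ∈ H, orderOf j = 2 → (∀ h ∈ H, h * j = j * h) → centralizer ({j} : Set G) = H)
    (hns : ¬ Group.IsSolvable G) :
    ∃ (N : Subgroup G) (_ : N.Normal), (Odd (Nat.card ↥N) ∨ ∃ m : ℕ, Odd m ∧ Nat.card ↥N = 2 * m) ∧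
      ∃ (F : Type) (_ : Field F) (_ : Fintype F), 3 < Fintype.card F ∧
        (Nonempty (G ⧸ N ≃* Matrix.ProjectiveSpecialLinearGroup (Fin 2) F) ∨
          Nonempty (G ⧸ N ≃* Matrix.ProjGenLinGroup (Fin 2) F)) := by
  have h : Hyp H A :=
    ⟨hAH, fun x hx hxA => by rw [← pow_two]; exact hD x hx hxA, h4,
      fun j hj hj2 hj1 hc g hg => by
        rw [← hC j hj (orderOf_eq_two hj2 hj1) fun y hy => hc y hy, mem_centralizer_singleton_iff]
        exact hg⟩
  rcases h.elem_or with he | hne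
  · obtain ⟨F, iF, iF', hF, ⟨e⟩⟩ := h.elementary he hns
    exact ⟨⊥, inferInstance, Or.inl (by rw [card_bot]; exact odd_one), F, iF, iF', hF,
      Or.inl ⟨QuotientGroup.quotientBot.trans e⟩⟩
  rcases hne.two_omega_or with hΩ | ⟨j, hj⟩
  · obtain ⟨N, hN, hcard, F, iF, iF', hF, he⟩ := hne.noncyclic hΩ hns
    exact ⟨N, hN, Or.inr hcard, F, iF, iF', hF, Or.inl he⟩
  obtain ⟨P, x, hxP, hxH, hxA, hjP, ⟨n, hn, hP⟩ | ⟨hsd, hsmall, k, hk, hquot⟩⟩ := hj.sylow_shape
  · obtain ⟨N, hN, hodd, hF⟩ := hj.dihedral hGW hns P hxP hxH hxA hjP hn hP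
    exact ⟨N, hN, Or.inl hodd, hF⟩
  · exact (hj.semidihedral hGW hns P hjP hsd hsmall hk hquot).elim

end Cfsg.Agent.H68.GenDihedral
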