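import Cfsg.Agent.H68.GenDihedral.Elementary
import Cfsg.Agent.S4593
import Cfsg.Agent.Fusion.Basic
import Cfsg.Agent.Cores.PCore

/-!
# The case of a central four-group in `H`

A Sylow 2-subgroup of `G` lies in `H`, fusion respects `A`, so `G` has a normal subgroup of index two
with abelian involution centralisers, and `G` is `SL(2, 2ⁿ)` extended by its centraliser.
-/

set_option autoImplicit false
set_option linter.unusedSectionVars false
set_option linter.style.haveILetI false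

namespace Cfsg.Agent.H68.GenDihedral

open Subgroup
open scoped commutatorElement

universe u

variable {G : Type u} [Group G] [Finite G] {H A : Subgroup G}

/-- Two distinct nontrivial elements of square one in `A`. -/
def TwoOmega (A : Subgroup G) : Prop :=
  ∃ w₁ ∈ A, ∃ w₂ ∈ A, w₁ * w₁ = 1 ∧ w₂ * w₂ = 1 ∧ w₁ ≠ 1 ∧ w₂ ≠ 1 ∧ w₁ ≠ w₂

namespace NonElem

variable (h : NonElem H A)
include h

/-- An element normalising the elements of square one of `A` fixes one of them. -/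
theorem exists_fixed : ∀ (n : ℕ) (u : G), u ^ 2 ^ n = 1 →
    (∀ w ∈ A, w * w = 1 → u * w * u⁻¹ ∈ A) → ∃ w ∈ A, w * w = 1 ∧ w ≠ 1 ∧ Commute u w := by
  intro n
  induction n with
  | zero =>
    intro u hu _
    obtain ⟨j, hj, hj2, hj1⟩ := h.exists_involution
    rw [pow_zero, pow_one] at hu
    exact ⟨j, hj, hj2, hj1, hu ▸ Commute.one_left j⟩
  | succ n ih =>
    intro u hu hn
    obtain ⟨w, hw, hw2, hw1, hc⟩ := ih (u * u) (by rw [← pow_two, ← pow_mul, ← pow_succ', hu])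
      fun v hv hv2 => by
        have := hn _ (hn v hv hv2) (conj_mul_self hv2 u)
        rwa [show u * (u * v * u⁻¹) * u⁻¹ = u * u * v * (u * u)⁻¹ by group] at this
    by_cases h1 : u * w * u⁻¹ = w
    · exact ⟨w, hw, hw2, hw1, mul_inv_eq_iff_eq_mul.1 h1⟩
    · have hcw : Commute w (u * w * u⁻¹) := h.comm hw (hn w hw hw2)
      refine ⟨w * (u * w * u⁻¹), mul_mem hw (hn w hw hw2), ?_, ?_, ?_⟩
      · rw [hcw.symm.mul_mul_mul_comm, hw2, conj_mul_self hw2 u, one_mul]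
      · intro e
        exact h1 ((eq_inv_of_mul_eq_one_right e).trans (inv_eq_self hw2))
      · refine mul_inv_eq_iff_eq_mul.1 ?_
        have h2 : u * u * w * (u * u)⁻¹ = w := by
          rw [hc.eq, mul_inv_cancel_right]
        rw [show u * (w * (u * w * u⁻¹)) * u⁻¹ = u * w * u⁻¹ * (u * u * w * (u * u)⁻¹) by group, h2]
        exact hcw.symm.eq

variable (hΩ : TwoOmega A)
include hΩ

/-- A Sylow 2-subgroup of `G` lies in `H`. -/
theorem exists_sylow_le : ∃ P : Sylow 2 G, (P : Subgroup G) ≤ H := by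
  haveI : Fact (Nat.Prime 2) := ⟨Nat.prime_two⟩
  obtain ⟨w₁, hA1, w₂, hA2, hs1, hs2, h11, h21, hne⟩ := hΩ
  obtain ⟨S⟩ : Nonempty (Sylow 2 ↥H) := inferInstance
  set S0 := (S : Subgroup ↥H).map H.subtype with hS0
  have hS0p : IsPGroup 2 ↥S0 := S.isPGroup'.map _
  have hmem : ∀ w ∈ A, w * w = 1 → w ∈ S0 := fun w hw hw2 => by
    obtain ⟨k, hk, hkw⟩ := exists_conj_mem_sylow S (h.mem_H hw) hw2
    rwa [(h.commute_omega hw hw2 hk).eq, mul_inv_cancel_right] at hkw
  obtain ⟨P, hP⟩ := hS0p.exists_le_sylow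
  refine ⟨P, fun y hy => by_contra fun hyH => ?_⟩
  haveI : Nontrivial ↥(P : Subgroup G) :=
    ⟨⟨⟨w₁, hP (hmem w₁ hA1 hs1)⟩, 1, fun e => h11 (congrArg Subtype.val e)⟩⟩
  haveI := P.isPGroup'.center_nontrivial
  obtain ⟨c, hc⟩ := exists_prime_orderOf_dvd_card' (G := center ↥(P : Subgroup G)) 2 (by
    obtain ⟨k, hk, hcard⟩ := (IsPGroup.nontrivial_iff_card (P.isPGroup'.to_subgroup _)).1
      (inferInstance : Nontrivial (center ↥(P : Subgroup G)))
    exact hcard ▸ dvd_pow_self 2 (by omega))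
  set z : G := ((c : ↥(P : Subgroup G)) : G) with hz
  have hzo : orderOf z = 2 := by rw [hz, Subgroup.orderOf_coe, Subgroup.orderOf_coe, hc]
  have hz2 := mul_self_of_orderOf hzo
  have hz1 : z ≠ 1 := fun e => by rw [e, orderOf_one] at hzo; omega
  have hzc : ∀ p ∈ (P : Subgroup G), Commute p z := fun p hp =>
    congrArg Subtype.val (mem_center_iff.1 c.2 ⟨p, hp⟩)
  have hzH : z ∈ H := (h.commute_iff hA1 hs1 h11).1 (hzc _ (hP (hmem _ hA1 hs1))).symm
  have hzA : z ∉ A := fun hzA => hyH ((h.commute_iff hzA hz2 hz1).1 (hzc y hy))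
  -- `S0 ∩ A` has exponent two
  have hS0A : ∀ s ∈ S0, s ∈ A → s * s = 1 := fun s hs hsA => by
    have h1 := h.inverts hzH hzA hsA
    rw [← (hzc s (hP hs)).eq, mul_inv_cancel_right] at h1
    exact mul_eq_one_iff_eq_inv.2 h1
  have hne' : S0 ≠ (P : Subgroup G) := fun e => hyH (map_subtype_le _ (e ▸ hy : y ∈ S0))
  obtain ⟨g, hgP, hgS, hgn⟩ := exists_normalizing P.isPGroup' hP hne'
  have hgH : g ∉ H := fun hgH => hgS <| by
    have := eq_map_sylow S (P.isPGroup'.to_le (inf_le_left (b := H)))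
      (le_inf hP (map_subtype_le _)) inf_le_right
    exact this.le ⟨hgP, hgH⟩
  -- `g` maps some element of square one in `A` into `A`
  have key : ∀ w ∈ A, w * w = 1 → w ≠ 1 → g * w * g⁻¹ ∈ A → False := by
    intro w hw hw2 hw1 hgw
    have hN : ∀ x ∈ H, g * x * g⁻¹ ∈ H := fun x hx =>
      (h.conj_mem_iff_of_fused hw hw2 hw1 hgw x).2 hx
    obtain ⟨n, hn⟩ := P.isPGroup' ⟨g, hgP⟩
    obtain ⟨v, hv, hv2, hv1, hgv⟩ := h.exists_fixed n g (congrArg Subtype.val hn)
      fun u hu _ => h.conj_mem_A hN hu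
    exact hgH ((h.commute_iff hv hv2 hv1).1 hgv)
  have hH : ∀ w ∈ A, w * w = 1 → g * w * g⁻¹ ∈ H := fun w hw hw2 =>
    map_subtype_le _ (hgn w (hmem w hw hw2))
  refine key (w₁ * w₂) (mul_mem hA1 hA2) ?_ ?_ ?_
  · rw [(h.comm hA2 hA1).mul_mul_mul_comm, hs1, hs2, one_mul] 
  · exact fun e => hne ((eq_inv_of_mul_eq_one_left e).trans (inv_eq_self hs2))
  · have e : g * (w₁ * w₂) * g⁻¹ = g * w₁ * g⁻¹ * (g * w₂ * g⁻¹) := by group
    rw [e]
    exact h.mul_mem_A (hH _ hA1 hs1) (fun e => key _ hA1 hs1 h11 e)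
      (hH _ hA2 hs2) (fun e => key _ hA2 hs2 h21 e)

/-- No element outside `A` is fused into `A`. -/
theorem not_fused {x g : G} (hx : x ∈ H) (hxA : x ∉ A) : g * x * g⁻¹ ∉ A := by
  obtain ⟨w₁, hA1, w₂, hA2, hs1, hs2, h11, h21, hne⟩ := hΩ
  intro hj
  have hx2 := h.sq x hx hxA
  have hj1 : g * x * g⁻¹ ≠ 1 := fun e => hxA (conj_eq_one_iff.1 e ▸ one_mem A)
  have hH : ∀ w ∈ A, w * w = 1 → g * w * g⁻¹ ∈ H := fun w hw hw2 =>
    (h.commute_iff hj (conj_mul_self hx2 g) hj1).1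
      (commute_conj (h.commute_omega hw hw2 hx).symm g)
  have key : ∀ w ∈ A, w * w = 1 → w ≠ 1 → g * w * g⁻¹ ∉ A := by
    intro w hw hw2 hw1 hgw
    have hN : ∀ y ∈ H, g⁻¹ * y * g⁻¹⁻¹ ∈ H := fun y hy => by
      refine (h.conj_mem_iff_of_fused hw hw2 hw1 hgw _).1 ?_
      rwa [show g * (g⁻¹ * y * g⁻¹⁻¹) * g⁻¹ = y by group]
    have := h.conj_mem_A hN hj
    rw [show g⁻¹ * (g * x * g⁻¹) * g⁻¹⁻¹ = x by group] at this
    exact hxA this
  refine key (w₁ * w₂) (mul_mem hA1 hA2) ?_ ?_ ?_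
  · rw [(h.comm hA2 hA1).mul_mul_mul_comm, hs1, hs2, one_mul]
  · exact fun e => hne ((eq_inv_of_mul_eq_one_left e).trans (inv_eq_self hs2))
  · have e : g * (w₁ * w₂) * g⁻¹ = g * w₁ * g⁻¹ * (g * w₂ * g⁻¹) := by group
    rw [e]
    exact h.mul_mem_A (hH _ hA1 hs1) (key _ hA1 hs1 h11) (hH _ hA2 hs2) (key _ hA2 hs2 h21)

/-- Conjugation inside `H` respects membership of `A`. -/
theorem mem_iff_of_fused {s g : G} (hs : s ∈ H) (ht : g * s * g⁻¹ ∈ H) :
    g * s * g⁻¹ ∈ A ↔ s ∈ A := by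
  refine ⟨fun h1 => by_contra fun h2 => h.not_fused hΩ hs h2 h1,
    fun h1 => by_contra fun h2 => ?_⟩
  refine h.not_fused hΩ ht h2 (g := g⁻¹) ?_
  rwa [show g⁻¹ * (g * s * g⁻¹) * g⁻¹⁻¹ = s by group]

/-- The normal subgroup of index two. -/
theorem exists_index_two (P : Sylow 2 G) (hP : (P : Subgroup G) ≤ H) :
    ∃ M : Subgroup G, M.Normal ∧ M.index = 2 ∧ (∀ y ∈ (P : Subgroup G), y ∈ M ↔ y ∈ A) := by
  haveI : Fact (Nat.Prime 2) := ⟨Nat.prime_two⟩
  set R := pResidual 2 G ⊔ commutator G with hR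
  set M := R ⊔ ((P : Subgroup G) ⊓ A) with hM
  haveI : M.Normal := ⟨fun n hn g => by
    have h1 : ⁅g, n⁆ ∈ M := mem_sup_left (mem_sup_right
      (commutator_mem_commutator (mem_top g) (mem_top n)))
    have := mul_mem h1 hn
    rwa [commutatorElement_def, inv_mul_cancel_right] at this⟩
  haveI : R.Normal := by rw [hR]; infer_instance
  have hfocal : (P : Subgroup G).focalSubgroup ≤ A := by
    rw [focalSubgroup_def, closure_le]
    rintro y ⟨hy, x, hx, u, rfl⟩
    have hx' : u * x⁻¹ * u⁻¹ ∈ (P : Subgroup G) := by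
      have := mul_mem (inv_mem hx) hy
      rwa [commutatorElement_def, show x⁻¹ * (x * u * x⁻¹ * u⁻¹) = u * x⁻¹ * u⁻¹ by group] at this
    rw [SetLike.mem_coe, commutatorElement_def, show x * u * x⁻¹ * u⁻¹ = x * (u * x⁻¹ * u⁻¹) by group,
      h.mul_mem_iff (hP hx) (hP hx'), h.mem_iff_of_fused hΩ (hP (inv_mem hx)) (hP hx'), inv_mem_iff]
  have hMP : ∀ y ∈ (P : Subgroup G), y ∈ M ↔ y ∈ A := by
    refine fun y hy => ⟨fun hyM => ?_, fun hyA => mem_sup_right ⟨hy, hyA⟩⟩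
    obtain ⟨r, hr, a, ha, rfl⟩ := mem_sup_of_normal_left.1 hyM
    refine mul_mem (hfocal ?_) (mem_inf.1 ha).2
    rw [← Fusion.pResidual_sup_commutator_inf P]
    exact mem_inf.2 ⟨hr, (mul_mem_cancel_right (mem_inf.1 ha).1).1 hy⟩
  refine ⟨M, inferInstance, ?_, hMP⟩
  have hsup : (P : Subgroup G) ⊔ M = ⊤ :=
    Fusion.sylow_sup_eq_top P (le_sup_left.trans le_sup_left)
  obtain ⟨S⟩ : Nonempty (Sylow 2 ↥H) := inferInstance
  obtain ⟨x, hxS, hxH, hxA, hx2, hx1⟩ := h.exists_sylow_out S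
  obtain ⟨g, hg⟩ := exists_conj_mem P (orderOf_eq_two hx2 hx1)
  have hgA : g * x * g⁻¹ ∉ A := h.not_fused hΩ hxH hxA
  rw [← relIndex_top_right, ← hsup, relIndex_sup_right]
  refine index_eq_two_iff.2 ⟨⟨_, hg⟩, fun b => ?_⟩
  simp only [mem_subgroupOf, Subgroup.coe_mul]
  rw [hMP _ (mul_mem b.2 hg), hMP _ b.2, h.mul_mem_iff (hP b.2) (hP hg)]
  by_cases hb : (b : G) ∈ A <;> simp [hb, hgA]

/-- The structure of `G`. -/
theorem noncyclic (hns : ¬ Group.IsSolvable G) :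
    ∃ (N : Subgroup G) (_ : N.Normal), (∃ m : ℕ, Odd m ∧ Nat.card ↥N = 2 * m) ∧
      ∃ (F : Type) (_ : Field F) (_ : Fintype F), 3 < Fintype.card F ∧
        Nonempty (G ⧸ N ≃* Matrix.ProjectiveSpecialLinearGroup (Fin 2) F) := by
  classical
  haveI : Fact (Nat.Prime 2) := ⟨Nat.prime_two⟩
  obtain ⟨P, hP⟩ := h.exists_sylow_le hΩ
  obtain ⟨M, hMn, hMi, hMP⟩ := h.exists_index_two hΩ P hP
  haveI := hMn
  obtain ⟨w₁, hA1, w₂, hA2, hs1, hs2, h11, h21, hne⟩ := id hΩ
  -- involutions of `H` and of `M`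
  have hinv : ∀ y ∈ H, y ∉ A → y ∉ M := by
    intro y hy hyA hyM
    have hy2 := h.sq y hy hyA
    obtain ⟨g, hg⟩ := exists_conj_mem P (orderOf_eq_two hy2 fun e => hyA (e ▸ one_mem A))
    exact h.not_fused hΩ hy hyA ((hMP _ hg).1 (hMn.conj_mem y hyM g))
  have hHM : ∀ y ∈ H, y ∈ M → y ∈ A := fun y hy hyM => by_contra fun hyA => hinv y hy hyA hyM
  have hAP : ∀ w ∈ A, w * w = 1 → w ∈ (P : Subgroup G) := by
    intro w hw hw2
    have hp : IsPGroup 2 ↥(zpowers w) := fun v => ⟨1, by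
      obtain ⟨_, i, rfl⟩ := v
      apply Subtype.ext
      show (w ^ i) ^ (2 ^ 1) = 1
      rw [← zpow_natCast, ← zpow_mul, mul_comm, zpow_mul, zpow_natCast,
        show w ^ (2 ^ 1) = 1 by simp [pow_two, hw2], one_zpow]⟩
    have hn : (P : Subgroup G) ≤ normalizer (zpowers w : Set G) := fun p hp => by
      refine centralizer_le_normalizer _ ?_
      rintro _ ⟨i, rfl⟩
      exact ((h.commute_omega hw hw2 (hP hp)).zpow_right i).symm.eq
    have hQ : IsPGroup 2 ↥((P : Subgroup G) ⊔ zpowers w) :=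
      P.isPGroup'.to_sup_of_normal_right' hp hn
    exact (P.is_maximal' hQ le_sup_left).le (mem_sup_right (mem_zpowers w))
  have hev : Even (Nat.card ↥M) := by
    have hm : w₁ ∈ M := (hMP _ (hAP _ hA1 hs1)).2 hA1
    rw [even_iff_two_dvd, ← orderOf_eq_two hs1 h11]
    exact orderOf_dvd_natCard M hm
  have hab : ∀ t : ↥M, orderOf t = 2 → IsMulCommutative ↥(centralizer ({t} : Set ↥M)) := by
    intro t ht
    rw [← Subgroup.orderOf_coe] at ht
    obtain ⟨g, hg⟩ := exists_conj_mem P ht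
    have hgM : g * t * g⁻¹ ∈ M := hMn.conj_mem _ t.2 g
    have hg2 := conj_mul_self (mul_self_of_orderOf ht) g
    have hg1 : g * (t : G) * g⁻¹ ≠ 1 := fun e => by
      rw [conj_eq_one_iff.1 e, orderOf_one] at ht; omega
    have hmem : ∀ v ∈ centralizer ({t} : Set ↥M), g * (v : G) * g⁻¹ ∈ A := fun v hv =>
      hHM _ ((h.commute_iff ((hMP _ hg).1 hgM) hg2 hg1).1
        (commute_conj (congrArg Subtype.val (mem_centralizer_singleton_iff.1 hv)) g))
        (hMn.conj_mem _ v.2 g)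
    refine ⟨⟨fun u v => Subtype.ext (Subtype.ext ?_)⟩⟩
    have := commute_conj (h.comm (hmem _ u.2) (hmem _ v.2)) g⁻¹
    simpa [mul_assoc, Commute, SemiconjBy] using this
  have hsolv : Group.IsSolvable ↥M → False := fun hs => by
    haveI := hs
    haveI : Group.IsSolvable (G ⧸ M) := by
      haveI : Group.IsNilpotent (G ⧸ M) :=
        (IsPGroup.of_card (p := 2) (n := 1) (by rw [← index_eq_card, hMi, pow_one])).isNilpotent
      infer_instance
    exact hns (Group.isSolvable_of_ker_le_range M.subtype (QuotientGroup.mk' M) (by simp))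
  rcases S2202.result hev hab with hcy | hn | ⟨F, _, _, O, _, _, hchar, hO, ⟨e⟩⟩
  · exfalso
    let u₁ : ↥M := ⟨w₁, (hMP _ (hAP _ hA1 hs1)).2 hA1⟩
    let u₂ : ↥M := ⟨w₂, (hMP _ (hAP _ hA2 hs2)).2 hA2⟩
    obtain ⟨Q, hQ⟩ := ((P.isPGroup'.to_le (inf_le_left (b := M))).comap_subtype (K := M)).exists_le_sylow
    haveI := hcy Q
    have hm : ∀ u : ↥M, (u : G) ∈ (P : Subgroup G) → u ∈ (Q : Subgroup ↥M) := fun u hu => hQ ⟨hu, u.2⟩
    letI : Fintype ↥(Q : Subgroup ↥M) := Fintype.ofFinite _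
    let q₁ : ↥(Q : Subgroup ↥M) := ⟨u₁, hm u₁ (hAP _ hA1 hs1)⟩
    let q₂ : ↥(Q : Subgroup ↥M) := ⟨u₂, hm u₂ (hAP _ hA2 hs2)⟩
    have hle := IsCyclic.card_pow_eq_one_le (α := ↥(Q : Subgroup ↥M)) two_pos
    have e1 : q₁ ^ 2 = 1 := Subtype.ext (Subtype.ext (by simp [q₁, u₁, pow_two, hs1]))
    have e2 : q₂ ^ 2 = 1 := Subtype.ext (Subtype.ext (by simp [q₂, u₂, pow_two, hs2]))
    have h3 : ({1, q₁, q₂} : Finset ↥(Q : Subgroup ↥M)).card = 3 := by
      have n1 : (1 : ↥(Q : Subgroup ↥M)) ≠ q₁ := fun e =>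
        h11 (congrArg (fun v : ↥(Q : Subgroup ↥M) => ((v : ↥M) : G)) e).symm
      have n2 : (1 : ↥(Q : Subgroup ↥M)) ≠ q₂ := fun e =>
        h21 (congrArg (fun v : ↥(Q : Subgroup ↥M) => ((v : ↥M) : G)) e).symm
      have n3 : q₁ ≠ q₂ := fun e =>
        hne (congrArg (fun v : ↥(Q : Subgroup ↥M) => ((v : ↥M) : G)) e)
      simp [n1, n2, n3]
    have := (Finset.card_le_card (s := ({1, q₁, q₂} : Finset ↥(Q : Subgroup ↥M)))
      fun v hv => Finset.mem_filter.2 ⟨Finset.mem_univ v, by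
      simp only [Finset.mem_insert, Finset.mem_singleton] at hv
      rcases hv with rfl | rfl | rfl
      exacts [one_pow 2, e1, e2]⟩).trans hle
    omega
  · exfalso
    obtain ⟨Q⟩ : Nonempty (Sylow 2 ↥M) := inferInstance
    haveI := hn Q
    haveI : Group.IsNilpotent ↥(Q : Subgroup ↥M) := Q.isPGroup'.isNilpotent
    exact hsolv (solvable_of_odd_index _ inferInstance
      (Nat.not_even_iff_odd.1 fun he => Q.not_dvd_index he.two_dvd))
  haveI := hchar
  have hF : 3 < Fintype.card F := by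
    refine three_lt_card hO ?_
    rw [← Nat.card_congr e.toEquiv]
    obtain ⟨V, hV4, hVM⟩ : ∃ V : Subgroup G, Nat.card V = 4 ∧ V ≤ M := by
      let V : Subgroup G :=
        { carrier := {1, w₁, w₂, w₁ * w₂}
          one_mem' := by simp
          mul_mem' := by
            have c := (h.comm hA1 hA2).eq
            have a1 : ∀ y, w₁ * (w₁ * y) = y := fun y => by rw [← mul_assoc, hs1, one_mul]
            have a2 : ∀ y, w₂ * (w₂ * y) = y := fun y => by rw [← mul_assoc, hs2, one_mul]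
            have a3 : ∀ y, w₂ * (w₁ * y) = w₁ * (w₂ * y) := fun y => by
              rw [← mul_assoc, ← c, mul_assoc]
            rintro p q (rfl | rfl | rfl | rfl) (rfl | rfl | rfl | rfl) <;>
              simp [hs1, hs2, a1, a3, ← c, mul_assoc]
          inv_mem' := by
            rintro p (rfl | rfl | rfl | rfl) <;>
              simp [inv_eq_self hs1, inv_eq_self hs2, (h.comm hA1 hA2).eq] }
      refine ⟨V, ?_, ?_⟩
      · show Nat.card ({1, w₁, w₂, w₁ * w₂} : Set G) = 4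
        have e1 : w₁ * w₂ ≠ 1 := fun e =>
          hne ((eq_inv_of_mul_eq_one_left e).trans (inv_eq_self hs2))
        rw [Nat.card_coe_set_eq, Set.ncard_insert_of_notMem (by simp [h11.symm, h21.symm, e1.symm]),
          Set.ncard_insert_of_notMem (by simp [hne, h21]), Set.ncard_pair (by simp [h11])]
      · rintro p (rfl | rfl | rfl | rfl)
        exacts [one_mem M, (hMP _ (hAP _ hA1 hs1)).2 hA1, (hMP _ (hAP _ hA2 hs2)).2 hA2,
          mul_mem ((hMP _ (hAP _ hA1 hs1)).2 hA1) ((hMP _ (hAP _ hA2 hs2)).2 hA2)]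
    exact hV4 ▸ card_dvd_of_le hVM
  haveI := isSimple_SL_two hF
  let ι : Matrix.SpecialLinearGroup (Fin 2) F →* G :=
    M.subtype.comp (e.symm.toMonoidHom.comp (MonoidHom.inl _ _))
  have hι : Function.Injective ι := M.subtype_injective.comp
    (e.symm.injective.comp fun a b hab => congrArg Prod.fst hab)
  set L := ι.range with hLdef
  have hLM : L ≤ M := by rintro _ ⟨s, rfl⟩; exact SetLike.coe_mem _
  have hLcomm : L = ⁅M, M⁆ := by
    refine le_antisymm ?_ (commutator_le.2 fun u hu v hv => ?_)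
    · have h1 : L = ⁅L, L⁆ := by
        rw [hLdef, MonoidHom.range_eq_map, ← map_commutator, ← _root_.commutator_def,
          commutator_SL_two hF]
      rw [h1]
      exact commutator_mono hLM hLM
    · refine ⟨(e ⁅(⟨u, hu⟩ : ↥M), ⟨v, hv⟩⁆).1, ?_⟩
      show ((e.symm ((e ⁅(⟨u, hu⟩ : ↥M), ⟨v, hv⟩⁆).1, 1) : ↥M) : G) = ⁅u, v⁆
      have h2 : (e ⁅(⟨u, hu⟩ : ↥M), ⟨v, hv⟩⁆).2 = 1 := by
        rw [map_commutatorElement]
        exact commutatorElement_eq_one_iff_commute.2 (Commute.all _ _)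
      rw [show ((e ⁅(⟨u, hu⟩ : ↥M), ⟨v, hv⟩⁆).1, (1 : O)) = e ⁅(⟨u, hu⟩ : ↥M), ⟨v, hv⟩⁆ from
        Prod.ext rfl h2.symm, e.symm_apply_apply]
      rfl
  haveI : L.Normal := by rw [hLcomm]; infer_instance
  -- two-elements of `M` square to one
  have hsq2 : ∀ (k : ℕ) (s : Matrix.SpecialLinearGroup (Fin 2) F), s ^ 2 ^ k = 1 → s ^ 2 = 1 := by
    intro k
    induction k using Nat.strong_induction_on with
    | _ k ih =>
      intro s hs
      match k, hs with
      | 0, hs => rw [pow_zero, pow_one] at hs; rw [hs, one_pow]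
      | 1, hs => simpa using hs
      | k + 2, hs =>
        refine ih (k + 1) (by omega) s ?_
        rw [pow_succ, pow_mul]
        refine sq_eq_one_of_pow_four ?_
        rwa [show (4 : ℕ) = 2 ^ 2 by norm_num, ← pow_mul, ← pow_add]
  -- an element outside `M` centralising a Sylow subgroup of `L`
  obtain ⟨S⟩ : Nonempty (Sylow 2 ↥H) := inferInstance
  obtain ⟨x₀, -, hxH, hxA, hx2, hx1⟩ := h.exists_sylow_out S
  obtain ⟨Q⟩ : Nonempty (Sylow 2 ↥L) := inferInstance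
  obtain ⟨R, hR⟩ := (Q.isPGroup'.map L.subtype).exists_le_sylow
  obtain ⟨g, hg⟩ := MulAction.exists_smul_eq G P R
  have hQP : ∀ q ∈ (Q : Subgroup ↥L), g⁻¹ * (q : G) * g ∈ (P : Subgroup G) := by
    intro q hq
    have h1 : (q : G) ∈ (R : Subgroup G) := hR ⟨q, hq, rfl⟩
    rw [← hg, Sylow.coe_subgroup_smul, mem_pointwise_smul_iff_inv_smul_mem] at h1
    simpa [MulAut.smul_def] using h1
  have hQ2 : ∀ q ∈ (Q : Subgroup ↥L), q * q = 1 := by
    intro q hq
    obtain ⟨k, hk⟩ := Q.isPGroup' ⟨q, hq⟩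
    obtain ⟨s, hs⟩ := q.2
    have hs1 : s ^ 2 ^ k = 1 := hι (by
      rw [map_pow, hs, map_one]
      exact congrArg Subtype.val (congrArg Subtype.val hk))
    refine Subtype.ext ?_
    show (q : G) * q = 1
    rw [← hs, ← map_mul, ← pow_two, hsq2 k s hs1, map_one]
  set x := g * x₀ * g⁻¹ with hxdef
  have hx2' : x * x = 1 := conj_mul_self hx2 g
  have hxM : x ∉ M := fun hm => by
    have := hMn.conj_mem x hm g⁻¹
    rw [hxdef, show g⁻¹ * (g * x₀ * g⁻¹) * g⁻¹⁻¹ = x₀ by group] at this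
    exact hinv _ hxH hxA this
  have hxQ : ∀ q ∈ (Q : Subgroup ↥L), Commute x (q : G) := by
    intro q hq
    have hv := hQP q hq
    have hvM : g⁻¹ * (q : G) * g ∈ M := by simpa using hMn.conj_mem _ (hLM q.2) g⁻¹
    have hv2 : g⁻¹ * (q : G) * g * (g⁻¹ * (q : G) * g) = 1 := by
      have := conj_mul_self (congrArg Subtype.val (hQ2 q hq) : (q : G) * q = 1) g⁻¹
      simpa using this
    have := commute_conj (h.commute_omega ((hMP _ hv).1 hvM) hv2 hxH) g
    rwa [show g * (g⁻¹ * (q : G) * g) * g⁻¹ = q by group] at this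
  have hZ : center ↥L = ⊥ := by
    refine (eq_bot_iff_forall _).2 fun c hc => ?_
    obtain ⟨s, hs⟩ := c.2
    have hsc : s ∈ center (Matrix.SpecialLinearGroup (Fin 2) F) := mem_center_iff.2 fun t => hι (by
      rw [map_mul, map_mul, hs]
      exact congrArg Subtype.val (mem_center_iff.1 hc ⟨ι t, t, rfl⟩))
    rw [center_SL_two, mem_bot] at hsc
    exact Subtype.ext (by rw [← hs, hsc, map_one]; rfl)
  have hcore : Cfsg.pPrimeCore 2 ↥L = ⊥ := by
    haveI : IsSimpleGroup ↥L := (MonoidHom.ofInjective hι).symm.isSimpleGroup_congr.2 inferInstance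
    haveI : (Cfsg.pPrimeCore 2 ↥L).Normal :=
      @normal_of_characteristic _ _ _ Cores.pPrimeCore_characteristic
    refine (IsSimpleGroup.eq_bot_or_eq_top_of_normal _ inferInstance).resolve_right fun he => ?_
    have hodd := Cores.odd_card_oddCore (G := ↥L)
    rw [show Cfsg.oddCore ↥L = ⊤ from he, card_top,
      ← Nat.card_congr (MonoidHom.ofInjective hι).toEquiv, Linear.card_SL_two] at hodd
    obtain ⟨n, -, hc⟩ := FiniteField.card F 2
    exact Nat.not_even_iff_odd.2 hodd (((Nat.even_pow.2 ⟨even_two, n.pos.ne'⟩) : Even (2 ^ (n : ℕ))).mul_right _ |> fun h' => hc ▸ h')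
  have hQab : IsMulCommutative ↥(Q : Subgroup ↥L) := ⟨⟨fun a b => Subtype.ext (by
    show (a : ↥L) * b = b * a
    rw [← inv_eq_self (hQ2 _ (mul_mem a.2 b.2)), mul_inv_rev, inv_eq_self (hQ2 _ a.2),
      inv_eq_self (hQ2 _ b.2)])⟩⟩
  obtain ⟨i, -, hi⟩ := (Nat.dvd_prime_pow Nat.prime_two).1
    (orderOf_dvd_of_pow_eq_one (x := (MulAut.conjNormal x : MulAut ↥L)) (n := 2 ^ 1)
      (by rw [pow_one, pow_two, ← map_mul, hx2', map_one]))
  obtain ⟨l, hl⟩ := S4593.result hZ hcore Q hQab (MulAut.conjNormal x) ⟨i, hi⟩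
    fun q hq => Subtype.ext (by
      rw [MulAut.conjNormal_apply, (hxQ q hq).eq, mul_inv_cancel_right])
  set N := centralizer (L : Set G) with hN
  have hxl : (l : G)⁻¹ * x ∈ N := by
    refine mem_centralizer_iff.2 fun y hy => ?_
    have := congrArg Subtype.val (hl ⟨y, hy⟩)
    simp only [MulAut.conjNormal_apply, Subgroup.coe_mul, InvMemClass.coe_inv] at this
    symm
    refine mul_inv_eq_iff_eq_mul.1 ?_
    rw [show (l : G)⁻¹ * x * y * ((l : G)⁻¹ * x)⁻¹ = (l : G)⁻¹ * (x * y * x⁻¹) * l by group, this]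
    group
  have hMLN : M ≤ L ⊔ N := by
    intro y hy
    have h1 : ((e.symm ((e ⟨y, hy⟩).1, 1) : ↥M) : G) ∈ L ⊔ N := mem_sup_left ⟨_, rfl⟩
    have h2 : ((e.symm (1, (e ⟨y, hy⟩).2) : ↥M) : G) ∈ L ⊔ N := by
      refine mem_sup_right (mem_centralizer_iff.2 ?_)
      rintro _ ⟨s, rfl⟩
      show ((e.symm (s, 1) : ↥M) : G) * _ = _ * ((e.symm (s, 1) : ↥M) : G)
      rw [← Subgroup.coe_mul, ← Subgroup.coe_mul, ← map_mul, ← map_mul]
      simp
    have := mul_mem h1 h2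
    rwa [← Subgroup.coe_mul, ← map_mul, Prod.mk_mul_mk, mul_one, one_mul, Prod.mk.eta,
      e.symm_apply_apply] at this
  have htop : L ⊔ N = ⊤ := by
    rw [eq_top_iff]
    intro y _
    have hxLN : x ∈ L ⊔ N := by
      have := mul_mem (mem_sup_left (T := N) l.2) (mem_sup_right (S := L) hxl)
      rwa [mul_inv_cancel_left] at this
    by_cases hy : y ∈ M
    · exact hMLN hy
    · have hyx : y * x ∈ L ⊔ N := hMLN ((mul_mem_iff_of_index_two hMi).2 (iff_of_false hy hxM))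
      exact (mul_mem_cancel_right hxLN).1 hyx
  let ψ : ↥L →* G ⧸ N := (QuotientGroup.mk' N).comp L.subtype
  have hψ : Function.Bijective ψ := by
    refine ⟨(injective_iff_map_eq_one _).2 fun a ha => ?_, fun q => ?_⟩
    · have haN : (a : G) ∈ N := (QuotientGroup.eq_one_iff _).1 ha
      have : a ∈ center ↥L := mem_center_iff.2 fun b =>
        Subtype.ext (mem_centralizer_iff.1 haN b b.2)
      rwa [hZ, mem_bot] at this
    · obtain ⟨y, rfl⟩ := QuotientGroup.mk'_surjective N q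
      obtain ⟨a, ha, b, hb, rfl⟩ := mem_sup_of_normal_right.1 (htop ▸ mem_top y)
      refine ⟨⟨a, ha⟩, ?_⟩
      show QuotientGroup.mk' N a = QuotientGroup.mk' N (a * b)
      rw [map_mul, show QuotientGroup.mk' N b = 1 from (QuotientGroup.eq_one_iff b).2 hb, mul_one]
  obtain ⟨f⟩ := nonempty_sl_equiv_psl (F := F)
  refine ⟨N, inferInstance, ⟨Nat.card O, hO, ?_⟩, F, inferInstance, inferInstance, hF,
    ⟨(MulEquiv.ofBijective ψ hψ).symm.trans ((MonoidHom.ofInjective hι).symm.trans f)⟩⟩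
  have h1 := N.card_mul_index
  rw [index_eq_card, ← Nat.card_congr (MulEquiv.ofBijective ψ hψ).toEquiv, ← M.card_mul_index, hMi,
    Nat.card_congr e.toEquiv, Nat.card_prod, ← Nat.card_congr (MonoidHom.ofInjective hι).toEquiv] at h1
  refine Nat.eq_of_mul_eq_mul_right (Nat.card_pos (α := Matrix.SpecialLinearGroup (Fin 2) F)) ?_
  rw [h1]
  ring

end NonElem

end Cfsg.Agent.H68.GenDihedral
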